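import Mathlib

set_option autoImplicit false

namespace Cfsg.Agent.Lib.Helper60

theorem sq_eq_one_of_orderOf_two {G : Type*} [Group G] {a : G} (ha : orderOf a = 2) : a * a = 1 := by
  have := pow_orderOf_eq_one a
  rwa [ha, pow_two] at this

theorem inv_eq_self_of_orderOf_two {G : Type*} [Group G] {a : G} (ha : orderOf a = 2) : a⁻¹ = a :=
  inv_eq_of_mul_eq_one_left (sq_eq_one_of_orderOf_two ha)

/-- `a` inverts powers of `a * b` for involutions `a`, `b`. -/
theorem invol_conj_pow {G : Type*} [Group G] {a b : G} (ha : a * a = 1) (k : ℕ) :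
    a * (a * b) ^ k * a = (b * a) ^ k := by
  induction k with
  | zero => simpa using ha
  | succ k ih =>
    have : a * (a * b) ^ (k + 1) * a = (a * (a * b) ^ k * a) * (a * (a * b) * a) := by
      rw [pow_succ]
      have h : a * (a * b) ^ k * a * (a * (a * b) * a) = a * (a * b) ^ k * (a * a) * (a * b) * a := by
        group
      rw [h, ha]; group
    rw [this, ih, pow_succ]
    congr 1
    have h : a * (a * b) * a = (a * a) * b * a := by group
    rw [h, ha, one_mul]

theorem invol_mul_inv {G : Type*} [Group G] {a b : G} (ha : a * a = 1) (hb : b * b = 1) :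
    (a * b)⁻¹ = b * a := by
  apply inv_eq_of_mul_eq_one_right
  have : a * b * (b * a) = a * (b * b) * a := by group
  rw [this, hb, mul_one, ha]

/-- Two non-conjugate involutions of a finite group both commute with an involution which is a power
of their product. -/
theorem exists_involution_commute_of_not_isConj {G : Type*} [Group G] [Finite G] {a b : G}
    (ha : orderOf a = 2) (hb : orderOf b = 2) (hnc : ¬ IsConj a b) :
    ∃ k : ℕ, orderOf ((a * b) ^ k) = 2 ∧ Commute ((a * b) ^ k) a ∧ Commute ((a * b) ^ k) b := by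
  have ha2 := sq_eq_one_of_orderOf_two ha
  have hb2 := sq_eq_one_of_orderOf_two hb
  have hai := inv_eq_self_of_orderOf_two ha
  have hbi := inv_eq_self_of_orderOf_two hb
  have hinv := invol_mul_inv ha2 hb2
  have hpos : 0 < orderOf (a * b) := orderOf_pos _
  rcases Nat.even_or_odd' (orderOf (a * b)) with ⟨k, hk | hk⟩
  · -- even order
    have hk0 : 0 < k := by omega
    have hord : orderOf ((a * b) ^ k) = 2 := by
      rw [orderOf_pow_of_dvd hk0.ne' ⟨2, by rw [hk]; ring⟩, hk]
      exact Nat.mul_div_left 2 hk0
    have hsq : (a * b) ^ k * (a * b) ^ k = 1 := sq_eq_one_of_orderOf_two hord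
    have hself : (b * a) ^ k = (a * b) ^ k := by
      rw [← hinv, inv_pow]
      exact inv_eq_of_mul_eq_one_left hsq
    refine ⟨k, hord, ?_, ?_⟩
    · have h1 := invol_conj_pow (b := b) ha2 k
      rw [hself] at h1
      -- a * r * a = r
      show (a * b) ^ k * a = a * (a * b) ^ k
      calc (a * b) ^ k * a = (a * (a * b) ^ k * a) * a := by rw [h1]
        _ = a * (a * b) ^ k * (a * a) := by group
        _ = a * (a * b) ^ k := by rw [ha2, mul_one]
    · have h1 := invol_conj_pow (b := a) hb2 k
      rw [hself] at h1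
      -- b * r * b = (a*b)^k where r = (b*a)^k = (a*b)^k
      show (a * b) ^ k * b = b * (a * b) ^ k
      calc (a * b) ^ k * b = (b * (a * b) ^ k * b) * b := by rw [h1]
        _ = b * (a * b) ^ k * (b * b) := by group
        _ = b * (a * b) ^ k := by rw [hb2, mul_one]
  · -- odd order: conjugate
    exfalso
    apply hnc
    rw [isConj_iff]
    refine ⟨(a * b) ^ k, ?_⟩
    have h1 := invol_conj_pow (b := b) ha2 k
    have hone : (a * b) ^ (2 * k + 1) = 1 := by rw [← hk]; exact pow_orderOf_eq_one _
    have h2 : ((a * b) ^ k)⁻¹ = (b * a) ^ k := by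
      rw [← hinv, inv_pow]
    rw [h2, ← h1]
    have h3 : (a * b) ^ k * a * (a * (a * b) ^ k * a) = (a * b) ^ k * (a * a) * (a * b) ^ k * a := by
      group
    rw [h3, ha2, mul_one, ← pow_add]
    have h4 : (a * b) ^ (k + k) * (a * b) = 1 := by
      rw [← pow_succ, ← two_mul]; exact hone
    have h5 : (a * b) ^ (k + k) = b * a := by
      rw [← hinv]; exact eq_inv_of_mul_eq_one_left h4
    rw [h5, mul_assoc, ha2, mul_one]

end Cfsg.Agent.Lib.Helper60
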