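import Cfsg.Agent.Lib.Helper60.KleinCent
import Cfsg.Agent.Lib.Helper82.ClassSum
import Cfsg.Agent.Lib.Helper78.DefectZero
import Cfsg.Agent.Lib.Helper21.DefectCard
import Cfsg.Agent.S0948

set_option autoImplicit false

/-!
Character-theoretic part: the order formula from the principal `2`-block gives
`|G : C(x)| < 18`.
-/

namespace Cfsg.Agent.Lib.Helper60.KleinCent

open Cfsg Cfsg.Agent.Lib.Helper6 Cfsg.Agent.Lib.Helper60.ThreeInv

variable {G : Type*} [Group G]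

theorem card_filter_conj_eq [Fintype G] (x v g : G) (hg : g * x * g⁻¹ = v)
    [DecidablePred (fun a : G => a * x * a⁻¹ = v)] :
    (Finset.univ.filter (fun a : G => a * x * a⁻¹ = v)).card =
      Nat.card (Subgroup.centralizer ({x} : Set G)) := by
  rw [← Fintype.card_subtype, ← Nat.card_eq_fintype_card]
  apply Nat.card_congr
  refine
    { toFun := fun a => ⟨g⁻¹ * a.1, ?_⟩
      invFun := fun c => ⟨g * c.1, ?_⟩
      left_inv := fun a => Subtype.ext (by simp)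
      right_inv := fun c => Subtype.ext (by simp) }
  · rw [Subgroup.mem_centralizer_singleton_iff]
    have h : a.1 * x * a.1⁻¹ = g * x * g⁻¹ := a.2.trans hg.symm
    have e1 : g⁻¹ * a.1 * x = g⁻¹ * (a.1 * x * a.1⁻¹) * a.1 := by group
    rw [e1, h]; group
  · have h := Subgroup.mem_centralizer_singleton_iff.mp c.2
    have e1 : g * c.1 * x * (g * c.1)⁻¹ = g * (c.1 * x) * c.1⁻¹ * g⁻¹ := by group
    rw [e1, h, ← hg]; group

/-- pure arithmetic -/
theorem arith {I F2 F3 F4 ε : ℤ} (hε : ε = 1 ∨ ε = -1) (h2 : 1 ≤ F2) (h3 : 1 ≤ F3) (h4 : 1 ≤ F4)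
    (d3 : (4 : ℤ) ∣ F3 - ε) (d4 : (4 : ℤ) ∣ F4 + 1)
    (E1 : 1 + F2 + ε * F3 - F4 = 0)
    (E2 : 8 * (F2 * F3 * F4) = I * (F2 * F3 * F4 + F3 * F4 + ε * (F2 * F4) - F2 * F3)) :
    I < 18 := by
  by_contra hcon
  push Not at hcon
  have p23 : 0 < F2 * F3 := by positivity
  have p34 : 0 < F3 * F4 := by positivity
  have p24 : 0 < F2 * F4 := by positivity
  have p234 : 0 < F2 * F3 * F4 := by positivity
  rcases hε with rfl | rfl
  · have e4 : F4 = 1 + F2 + F3 := by linarith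
    have hB : F2 * F3 * F4 < F2 * F3 * F4 + F3 * F4 + 1 * (F2 * F4) - F2 * F3 := by
      have : F2 * F3 < F2 * F4 := by
        apply mul_lt_mul_of_pos_left _ (by linarith)
        linarith
      linarith
    have h5 : 18 * (F2 * F3 * F4) < I * (F2 * F3 * F4 + F3 * F4 + 1 * (F2 * F4) - F2 * F3) := by
      calc 18 * (F2 * F3 * F4) < 18 * (F2 * F3 * F4 + F3 * F4 + 1 * (F2 * F4) - F2 * F3) := by
            linarith
        _ ≤ I * (F2 * F3 * F4 + F3 * F4 + 1 * (F2 * F4) - F2 * F3) := by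
            apply mul_le_mul_of_nonneg_right hcon
            linarith
    linarith
  · have g3 : 3 ≤ F3 := by omega
    have g4 : 3 ≤ F4 := by omega
    have e2 : F2 = F3 + F4 - 1 := by linarith
    have hB : F2 * F3 * F4 + F3 * F4 + (-1) * (F2 * F4) - F2 * F3 =
        (F2 + 1) * ((F3 - 1) * (F4 - 1)) := by
      rw [e2]; ring
    have h9 : 4 * (F3 * F4) ≤ 9 * ((F3 - 1) * (F4 - 1)) := by
      have a3 : 2 * F3 ≤ 3 * (F3 - 1) := by linarith
      have a4 : 2 * F4 ≤ 3 * (F4 - 1) := by linarith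
      have := mul_le_mul a3 a4 (by linarith) (by linarith)
      linarith
    have hpos : 0 ≤ (F2 + 1) * ((F3 - 1) * (F4 - 1)) := by
      apply mul_nonneg (by linarith)
      apply mul_nonneg <;> linarith
    rw [hB] at E2
    have h5 : 18 * ((F2 + 1) * ((F3 - 1) * (F4 - 1))) ≤ I * ((F2 + 1) * ((F3 - 1) * (F4 - 1))) :=
      mul_le_mul_of_nonneg_right hcon hpos
    have h6 : (F2 + 1) * (4 * (F3 * F4)) ≤ (F2 + 1) * (9 * ((F3 - 1) * (F4 - 1))) :=
      mul_le_mul_of_nonneg_left h9 (by linarith)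
    nlinarith

theorem Setup.index_lt [Finite G] {x : G} {S₀ : Subgroup G} (St : Setup x S₀) (P : Sylow 2 G)
    (hP : (P : Subgroup G) = S₀)
    (hone : ∀ u v : G, orderOf u = 2 → orderOf v = 2 → IsConj u v) :
    (Subgroup.centralizer ({x} : Set G)).index < 18 := by
  classical
  have := Fintype.ofFinite G
  obtain ⟨M, hM⟩ := Cfsg.Agent.Lib.Helper78.exists_isPModular Nat.prime_two
  have hPK : IsKleinFour (P : Subgroup G) := by rw [hP]; exact St.hK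
  obtain ⟨ζ₂, ζ₃, ζ₄, ε, hε, -, -, -, -, -, -, hval, -, hd3, hd4, hodd⟩ :=
    Cfsg.Agent.S0948.result M hM P hPK hone
  obtain ⟨y, hy, hyS, hyx, henum⟩ := St.exists_y
  have hx := St.hx
  have hx1 : x ≠ 1 := invol_ne_one hx
  have hy1 : y ≠ 1 := invol_ne_one hy
  have cxy : Commute x y := St.comm St.x_mem hyS
  have hεε : (ε : ℂ) * ε = 1 := by
    rcases hε with rfl | rfl <;> norm_num
  let Θ : G → ℂ := fun g => 1 + (ζ₂ : G → ℂ) g + (ε : ℂ) * (ζ₃ : G → ℂ) g - (ζ₄ : G → ℂ) g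
  have hΘinv : ∀ z : G, orderOf z = 2 → Θ z = 4 := by
    intro z hz
    obtain ⟨h2, h3, h4⟩ := hval z hz
    show 1 + (ζ₂ : G → ℂ) z + (ε : ℂ) * (ζ₃ : G → ℂ) z - (ζ₄ : G → ℂ) z = 4
    rw [h2, h3, h4, hεε]; norm_num
  have hpt : ∀ a : G, Θ (a * x * a⁻¹ * x) =
      (if a * x * a⁻¹ = y then (4 : ℂ) else 0) + (if a * x * a⁻¹ = x * y then (4 : ℂ) else 0) := by
    intro a
    have hs : orderOf (a * x * a⁻¹) = 2 := invol_conj hx a
    by_cases h1 : a * x * a⁻¹ = y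
    · have n2 : ¬ (y = x * y) := fun e => hx1 (by simpa using e.symm)
      rw [h1, if_pos rfl, if_neg n2, add_zero]
      exact hΘinv _ (invol_mul_of_commute hy hx cxy.symm hyx)
    by_cases h2 : a * x * a⁻¹ = x * y
    · rw [if_neg h1, if_pos h2, zero_add, h2]
      have : x * y * x = y := by rw [cxy.eq, mul_assoc, invol_mul_self hx, mul_one]
      rw [this]
      exact hΘinv y hy
    rw [if_neg h1, if_neg h2, add_zero]
    apply hodd
    by_cases h3 : a * x * a⁻¹ = x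
    · rw [h3, invol_mul_self hx, orderOf_one]; exact odd_one
    · rcases St.commute_or_odd hone hs with hc | ho
      · rcases henum _ hs hc.symm with e | e | e
        · exact absurd e h3
        · exact absurd e h1
        · exact absurd e h2
      · exact ho
  obtain ⟨g₁, hg₁⟩ := isConj_iff.mp (hone x y hx hy)
  obtain ⟨g₂, hg₂⟩ := isConj_iff.mp (hone x (x * y) hx (invol_mul_of_commute hx hy cxy hyx.symm))
  have hsum1 : ∑ a : G, Θ (a * x * a⁻¹ * x) =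
      8 * (Nat.card (Subgroup.centralizer ({x} : Set G)) : ℂ) := by
    simp only [hpt]
    rw [Finset.sum_add_distrib, ← Finset.sum_filter, ← Finset.sum_filter, Finset.sum_const,
      Finset.sum_const, card_filter_conj_eq x y g₁ hg₁, card_filter_conj_eq x (x * y) g₂ hg₂]
    simp only [nsmul_eq_mul]
    ring
  have hv := hval x hx
  have hsum2 : ∑ a : G, Θ (a * x * a⁻¹ * x) = (Nat.card G : ℂ) *
      (1 + 1 / (ζ₂ : G → ℂ) 1 + (ε : ℂ) / (ζ₃ : G → ℂ) 1 - 1 / (ζ₄ : G → ℂ) 1) := by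
    show ∑ a : G, (1 + (ζ₂ : G → ℂ) (a * x * a⁻¹ * x) + (ε : ℂ) * (ζ₃ : G → ℂ) (a * x * a⁻¹ * x)
      - (ζ₄ : G → ℂ) (a * x * a⁻¹ * x)) = _
    rw [Finset.sum_sub_distrib, Finset.sum_add_distrib, Finset.sum_add_distrib, ← Finset.mul_sum,
      Cfsg.Agent.Lib.Helper82.isIrr_sum_conj_mul ζ₂.2, Cfsg.Agent.Lib.Helper82.isIrr_sum_conj_mul ζ₃.2,
      Cfsg.Agent.Lib.Helper82.isIrr_sum_conj_mul ζ₄.2, hv.1, hv.2.1, hv.2.2]
    simp only [Finset.sum_const, Finset.card_univ, nsmul_eq_mul, ← Nat.card_eq_fintype_card]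
    have : (ε : ℂ) * ((Nat.card G : ℂ) * ε * ε / (ζ₃ : G → ℂ) 1) =
        (Nat.card G : ℂ) * ((ε * ε) * ε / (ζ₃ : G → ℂ) 1) := by ring
    rw [this, hεε]
    ring
  have hf2 := Cfsg.Agent.Lib.Helper21.irr_one_eq_charDegree ζ₂
  have hf3 := Cfsg.Agent.Lib.Helper21.irr_one_eq_charDegree ζ₃
  have hf4 := Cfsg.Agent.Lib.Helper21.irr_one_eq_charDegree ζ₄
  have n2 : ((charDegree (ζ₂ : G → ℂ) : ℕ) : ℂ) ≠ 0 := hf2 ▸ Cfsg.Agent.Lib.Helper82.isIrr_one_ne_zero ζ₂.2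
  have n3 : ((charDegree (ζ₃ : G → ℂ) : ℕ) : ℂ) ≠ 0 := hf3 ▸ Cfsg.Agent.Lib.Helper82.isIrr_one_ne_zero ζ₃.2
  have n4 : ((charDegree (ζ₄ : G → ℂ) : ℕ) : ℂ) ≠ 0 := hf4 ▸ Cfsg.Agent.Lib.Helper82.isIrr_one_ne_zero ζ₄.2
  have hone' := hodd 1 (by rw [orderOf_one]; exact odd_one)
  rw [hf2, hf3, hf4] at hone'
  have hG := (Subgroup.centralizer ({x} : Set G)).card_mul_index
  have hc0 : (Nat.card (Subgroup.centralizer ({x} : Set G)) : ℂ) ≠ 0 := by
    exact_mod_cast Nat.card_pos.ne'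
  have hmain := hsum1.symm.trans hsum2
  rw [hf2, hf3, hf4, ← hG] at hmain
  push_cast at hmain
  set F2 := charDegree (ζ₂ : G → ℂ) with hF2
  set F3 := charDegree (ζ₃ : G → ℂ) with hF3
  set F4 := charDegree (ζ₄ : G → ℂ) with hF4
  set I := (Subgroup.centralizer ({x} : Set G)).index with hI
  have E2c : (8 : ℂ) * ((F2 : ℂ) * F3 * F4) =
      (I : ℂ) * ((F2 : ℂ) * F3 * F4 + (F3 : ℂ) * F4 + (ε : ℂ) * ((F2 : ℂ) * F4) - (F2 : ℂ) * F3) := by
    have h1 : (8 : ℂ) = (I : ℂ) * (1 + 1 / (F2 : ℂ) + (ε : ℂ) / (F3 : ℂ) - 1 / (F4 : ℂ)) := by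
      apply mul_left_cancel₀ hc0
      rw [mul_comm _ (8 : ℂ), hmain]; ring
    rw [h1]
    field_simp
  have E2 : 8 * ((F2 : ℤ) * F3 * F4) =
      (I : ℤ) * ((F2 : ℤ) * F3 * F4 + (F3 : ℤ) * F4 + ε * ((F2 : ℤ) * F4) - (F2 : ℤ) * F3) := by
    exact_mod_cast E2c
  have E1 : 1 + (F2 : ℤ) + ε * F3 - F4 = 0 := by exact_mod_cast hone'
  have p2 : 1 ≤ (F2 : ℤ) := by
    have : F2 ≠ 0 := by exact_mod_cast n2
    omega
  have p3 : 1 ≤ (F3 : ℤ) := by
    have : F3 ≠ 0 := by exact_mod_cast n3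
    omega
  have p4 : 1 ≤ (F4 : ℤ) := by
    have : F4 ≠ 0 := by exact_mod_cast n4
    omega
  have := arith hε p2 p3 p4 hd3 hd4 E1 E2
  exact_mod_cast this

end Cfsg.Agent.Lib.Helper60.KleinCent
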