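import Mathlib
import Cfsg.Agent.Lib.Helper6.Invol

set_option autoImplicit false

namespace Cfsg.Agent.Lib.Helper60.ThreeInv

open Cfsg.Agent.Lib.Helper6

variable {G : Type*} [Group G]

/-- non-conjugate involutions of a finite group have a common commuting involution -/
theorem exists_common_invol [Finite G] {s t : G} (hs : orderOf s = 2) (ht : orderOf t = 2)
    (hn : ¬ IsConj s t) : ∃ w : G, orderOf w = 2 ∧ Commute s w ∧ Commute t w := by
  rcases Nat.even_or_odd (orderOf (s * t)) with he | ho
  · obtain ⟨m, hm⟩ := he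
    have hm' : orderOf (s * t) = 2 * m := by omega
    have hm0 : m ≠ 0 := by
      intro h0
      have := orderOf_pos (s * t)
      omega
    exact ⟨_, invol_central_of_even hs ht hm' hm0⟩
  · exact absurd (invol_isConj_of_odd hs ht ho) hn

/-- `s` commutes with at most three involutions -/
def AtMost3 (s : G) : Prop :=
  ∀ a b c u : G, orderOf a = 2 → orderOf b = 2 → orderOf c = 2 → orderOf u = 2 →
    Commute s a → Commute s b → Commute s c → Commute s u →
    a ≠ b → a ≠ c → b ≠ c → u = a ∨ u = b ∨ u = c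

/-- an involution commuting with `x`, as an element of the subtype -/
def mkInv {x : G} (y : G) (hy : orderOf y = 2) (cy : Commute x y) :
    {u : ↥(Subgroup.centralizer ({x} : Set G)) // orderOf u = 2} :=
  ⟨⟨y, by
      rw [Subgroup.mem_centralizer_singleton_iff]
      exact cy.symm.eq⟩, by
      rw [← hy]; exact Subgroup.orderOf_mk _ _⟩

theorem atMost3_of_card [Finite G] {x : G}
    (h3 : Nat.card {u : ↥(Subgroup.centralizer ({x} : Set G)) // orderOf u = 2} ≤ 3) :
    AtMost3 x := by
  intro a b c u ha hb hc hu ca cb cc cu hab hac hbc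
  by_contra hcon
  push Not at hcon
  obtain ⟨h1, h2, h3'⟩ := hcon
  let f : Fin 4 → {u : ↥(Subgroup.centralizer ({x} : Set G)) // orderOf u = 2} :=
    ![mkInv a ha ca, mkInv b hb cb, mkInv c hc cc, mkInv u hu cu]
  have hval : ∀ i, ((f i).1 : G) = ![a, b, c, u] i := by
    intro i
    fin_cases i <;> rfl
  have hf : Function.Injective f := by
    intro i j hij
    have h := congrArg (fun y => ((y.1 : ↥(Subgroup.centralizer ({x} : Set G))) : G)) hij
    simp only [hval] at h
    fin_cases i <;> fin_cases j <;> simp_all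
  have := Nat.card_le_card_of_injective f hf
  rw [Nat.card_eq_fintype_card, Fintype.card_fin] at this
  omega

theorem AtMost3.conj {x : G} (h : AtMost3 x) (g : G) : AtMost3 (g * x * g⁻¹) := by
  intro a b c u ha hb hc hu ca cb cc cu hab hac hbc
  have key : ∀ y : G, Commute (g * x * g⁻¹) y → Commute x (g⁻¹ * y * g⁻¹⁻¹) := by
    intro y hy
    have h1 : g * x * g⁻¹ * y = y * (g * x * g⁻¹) := hy.eq
    show x * (g⁻¹ * y * g⁻¹⁻¹) = g⁻¹ * y * g⁻¹⁻¹ * x
    have h2 : x * (g⁻¹ * y * g⁻¹⁻¹) = g⁻¹ * (g * x * g⁻¹ * y) * g := by group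
    rw [h2, h1]; group
  have inj : ∀ y y' : G, g⁻¹ * y * g⁻¹⁻¹ = g⁻¹ * y' * g⁻¹⁻¹ → y = y' := by
    intro y y' hy
    exact mul_left_cancel (mul_right_cancel hy)
  rcases h _ _ _ _ (invol_conj ha g⁻¹) (invol_conj hb g⁻¹) (invol_conj hc g⁻¹) (invol_conj hu g⁻¹)
    (key a ca) (key b cb) (key c cc) (key u cu) (fun e => hab (inj _ _ e))
    (fun e => hac (inj _ _ e)) (fun e => hbc (inj _ _ e)) with e | e | e
  · exact Or.inl (inj _ _ e)
  · exact Or.inr (Or.inl (inj _ _ e))
  · exact Or.inr (Or.inr (inj _ _ e))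

theorem AtMost3.of_isConj {x y : G} (h : AtMost3 x) (hc : IsConj x y) : AtMost3 y := by
  obtain ⟨g, hg⟩ := isConj_iff.mp hc
  rw [← hg]; exact h.conj g

/-- product of two distinct commuting involutions -/
theorem invol_mul_of_commute {x z : G} (hx : orderOf x = 2) (hz : orderOf z = 2)
    (hc : Commute x z) (hne : x ≠ z) : orderOf (x * z) = 2 := by
  rw [invol_iff]
  refine ⟨?_, ?_⟩
  · have : x * z * (x * z) = (x * x) * (z * z) := by
      rw [mul_assoc, ← mul_assoc z x z, ← hc.eq]; group
    rw [this, invol_mul_self hx, invol_mul_self hz, one_mul]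
  · intro h
    apply hne
    have := eq_inv_of_mul_eq_one_left h
    rw [this, invol_inv hz]

/-- Key lemma: `x` commutes with at most three involutions, among them `z`, where `z` is not
conjugate to `x` but `x * z` is.  Then `z` commutes with all its conjugates. -/
theorem commute_conj_of_fusion [Finite G] {x z : G} (hx : orderOf x = 2) (hz : orderOf z = 2)
    (h3 : AtMost3 x) (hc : Commute x z) (hnz : ¬ IsConj x z) (hxz : IsConj x (x * z)) (g : G) :
    Commute z (g * z * g⁻¹) := by
  have hne : x ≠ z := fun e => hnz (e ▸ IsConj.refl x)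
  have hxz2 : orderOf (x * z) = 2 := invol_mul_of_commute hx hz hc hne
  have hz' : orderOf (g * z * g⁻¹) = 2 := invol_conj hz g
  have hzz' : IsConj z (g * z * g⁻¹) := isConj_iff.mpr ⟨g, rfl⟩
  have hn' : ¬ IsConj x (g * z * g⁻¹) := fun h => hnz (h.trans hzz'.symm)
  have hz1 : z ≠ 1 := invol_ne_one hz
  have hx1 : x ≠ 1 := invol_ne_one hx
  have d1 : x ≠ x * z := fun e => hz1 (by simpa using e.symm)
  have d2 : z ≠ x * z := fun e => hx1 (by simpa using e.symm)
  have cxx : Commute x x := Commute.refl x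
  have cxxz : Commute x (x * z) := cxx.mul_right hc
  -- any conjugate of z commuting with x (or x*z) equals z
  have only : ∀ y : G, IsConj x y → AtMost3 y → Commute y x → Commute y z → Commute y (x * z) →
      Commute y (g * z * g⁻¹) → g * z * g⁻¹ = z := by
    intro y _ hy3 c1 c2 c3 c4
    rcases hy3 x z (x * z) (g * z * g⁻¹) hx hz hxz2 hz' c1 c2 c3 c4 hne d1 d2 with e | e | e
    · exact absurd (e ▸ IsConj.refl x) (fun h => hn' (by rw [e]))
    · exact e
    · exact absurd hxz (fun h => hn' (by rw [e]; exact h))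
  obtain ⟨w, hw, cw1, cw2⟩ := exists_common_invol hx hz' hn'
  rcases h3 x z (x * z) w hx hz hxz2 hw cxx hc cxxz cw1 hne d1 d2 with e | e | e
  · -- w = x
    subst e
    have := only w (IsConj.refl _) h3 cxx hc cxxz cw2.symm
    rw [this]
  · subst e
    exact cw2.symm
  · have c1 : Commute (x * z) x := cxxz.symm
    have c2 : Commute (x * z) z := (hc.mul_left (Commute.refl z))
    have := only (x * z) hxz (h3.of_isConj hxz) c1 c2 (Commute.refl _) (e ▸ cw2.symm)
    rw [this]

/-- In a simple group the fusion pattern of `commute_conj_of_fusion` is impossible. -/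
theorem false_of_fusion [Finite G] [IsSimpleGroup G] {x z : G} (hx : orderOf x = 2)
    (hz : orderOf z = 2) (h3 : AtMost3 x) (hc : Commute x z) (hnz : ¬ IsConj x z)
    (hxz : IsConj x (x * z)) : False := by
  have hcomm := commute_conj_of_fusion hx hz h3 hc hnz hxz
  have hz1 : z ≠ 1 := invol_ne_one hz
  -- the normal closure of z is everything
  have htop : Subgroup.normalClosure ({z} : Set G) = ⊤ := by
    rcases (Subgroup.normalClosure_normal (s := ({z} : Set G))).eq_bot_or_eq_top with h | h
    · exfalso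
      apply hz1
      have : z ∈ Subgroup.normalClosure ({z} : Set G) :=
        Subgroup.subset_normalClosure (Set.mem_singleton z)
      rw [h] at this
      exact Subgroup.mem_bot.mp this
    · exact h
  -- all conjugates of z commute
  have hall : ∀ a ∈ Group.conjugatesOfSet ({z} : Set G), ∀ b ∈ Group.conjugatesOfSet ({z} : Set G),
      a * b = b * a := by
    intro a ha b hb
    rw [Group.mem_conjugatesOfSet_iff] at ha hb
    obtain ⟨z1, hz1', ha⟩ := ha
    obtain ⟨z2, hz2', hb⟩ := hb
    rw [Set.mem_singleton_iff] at hz1' hz2'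
    rw [hz1'] at ha
    rw [hz2'] at hb
    obtain ⟨g, rfl⟩ := isConj_iff.mp ha
    obtain ⟨k, rfl⟩ := isConj_iff.mp hb
    have h1 := (hcomm (g⁻¹ * k)).eq
    have e1 : g * z * g⁻¹ * (k * z * k⁻¹) = g * (z * (g⁻¹ * k * z * (g⁻¹ * k)⁻¹)) * g⁻¹ := by
      group
    rw [e1, h1]; group
  have hab : ∀ a b : G, a * b = b * a := by
    intro a b
    have ha : a ∈ Subgroup.closure (Group.conjugatesOfSet ({z} : Set G)) := by
      have : a ∈ Subgroup.normalClosure ({z} : Set G) := htop ▸ Subgroup.mem_top a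
      exact this
    have hb : b ∈ Subgroup.closure (Group.conjugatesOfSet ({z} : Set G)) := by
      have : b ∈ Subgroup.normalClosure ({z} : Set G) := htop ▸ Subgroup.mem_top b
      exact this
    have hcl := Subgroup.closure_le_centralizer_centralizer (Group.conjugatesOfSet ({z} : Set G))
    have hsub : Subgroup.closure (Group.conjugatesOfSet ({z} : Set G)) ≤
        Subgroup.centralizer (Group.conjugatesOfSet ({z} : Set G)) := by
      rw [Subgroup.closure_le]
      intro c hcmem
      rw [SetLike.mem_coe, Subgroup.mem_centralizer_iff]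
      intro d hd
      exact hall d hd c hcmem
    have h1 := hcl ha
    rw [Subgroup.mem_centralizer_iff] at h1
    exact (h1 b (hsub hb)).symm
  obtain ⟨g, hg⟩ := isConj_iff.mp hxz
  have : g * x * g⁻¹ = x := by rw [hab g x]; group
  rw [this] at hg
  exact hz1 (by simpa using hg.symm)

/-- The statement, conditional on the `Z*`-theorem for `G`. -/
theorem main [Finite G] [IsSimpleGroup G]
    (hZ : ∀ (P : Sylow 2 G) (u : G), orderOf u = 2 → u ∈ P →
      (∀ g : G, g * u * g⁻¹ ∈ P → g * u * g⁻¹ = u) →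
      ∃ N : Subgroup G, N.Normal ∧ Odd (Nat.card N) ∧ ∀ g : G, (u * g * u⁻¹ * g⁻¹) ∈ N)
    (x : G) (hx : orderOf x = 2)
    (h3 : Nat.card {u : ↥(Subgroup.centralizer ({x} : Set G)) // orderOf u = 2} ≤ 3) :
    (∃ S : Sylow 2 G, (S : Subgroup G) ≤ Subgroup.centralizer ({x} : Set G)) ∧
      ∀ u v : G, orderOf u = 2 → orderOf v = 2 → IsConj u v := by
  have hfact : Fact (Nat.Prime 2) := ⟨Nat.prime_two⟩
  have h3' : AtMost3 x := atMost3_of_card h3
  have hx1 : x ≠ 1 := invol_ne_one hx
  -- a Sylow 2-subgroup containing x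
  obtain ⟨S, hS⟩ : ∃ S : Sylow 2 G, x ∈ S := by
    have hp : IsPGroup 2 (Subgroup.zpowers x) := by
      rw [IsPGroup.iff_card]
      exact ⟨1, by rw [Nat.card_zpowers, hx, pow_one]⟩
    obtain ⟨S, hS⟩ := hp.exists_le_sylow
    exact ⟨S, hS (Subgroup.mem_zpowers x)⟩
  -- a central involution of S
  obtain ⟨c, hc2, hcS, hcZ⟩ : ∃ c : G, orderOf c = 2 ∧ c ∈ S ∧ ∀ s ∈ S, Commute c s := by
    have : Nontrivial (S : Subgroup G) := ⟨⟨⟨x, hS⟩, 1, fun h => hx1 (congrArg Subtype.val h)⟩⟩
    have := S.2.center_nontrivial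
    have hpZ : IsPGroup 2 (Subgroup.center (S : Subgroup G)) := S.2.to_subgroup _
    have hdvd : 2 ∣ Nat.card (Subgroup.center (S : Subgroup G)) := by
      obtain ⟨n, hn⟩ := IsPGroup.iff_card.mp hpZ
      have hn0 : n ≠ 0 := by
        rintro rfl
        have h1 : 1 < Nat.card (Subgroup.center (S : Subgroup G)) := Finite.one_lt_card
        omega
      rw [hn]; exact dvd_pow_self 2 hn0
    obtain ⟨c, hc⟩ := exists_prime_orderOf_dvd_card' 2 hdvd
    refine ⟨((c : (S : Subgroup G)) : G), ?_, (c : (S : Subgroup G)).2, ?_⟩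
    · rw [Subgroup.orderOf_coe, Subgroup.orderOf_coe]; exact hc
    · intro s hs
      have := Subgroup.mem_center_iff.mp c.2 ⟨s, hs⟩
      exact (congrArg Subtype.val this).symm
  have hSc : (S : Subgroup G) ≤ Subgroup.centralizer ({c} : Set G) := by
    intro s hs
    rw [Subgroup.mem_centralizer_singleton_iff]
    exact (hcZ s hs).symm.eq
  have cxc : Commute x c := (hcZ x hS).symm
  -- reduction: it suffices that every involution commuting with x is conjugate to x
  have reduce : (∀ a : G, orderOf a = 2 → Commute x a → IsConj x a) →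
      (∃ S : Sylow 2 G, (S : Subgroup G) ≤ Subgroup.centralizer ({x} : Set G)) ∧
      ∀ u v : G, orderOf u = 2 → orderOf v = 2 → IsConj u v := by
    intro hall
    obtain ⟨g, hg⟩ := isConj_iff.mp (hall c hc2 cxc)
    have hS' : ((g⁻¹ • S : Sylow 2 G) : Subgroup G) ≤ Subgroup.centralizer ({x} : Set G) := by
      intro s hs
      rw [Sylow.coe_subgroup_smul, Subgroup.mem_pointwise_smul_iff_inv_smul_mem, ← map_inv, inv_inv,
        MulAut.smul_def, MulAut.conj_apply] at hs
      have h1 := (hcZ _ hs).eq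
      rw [Subgroup.mem_centralizer_singleton_iff]
      rw [← hg] at h1
      have h2 : s * x = g⁻¹ * (g * s * g⁻¹ * (g * x * g⁻¹)) * g := by group
      rw [h2, ← h1]; group
    refine ⟨⟨_, hS'⟩, ?_⟩
    have hux : ∀ u : G, orderOf u = 2 → IsConj x u := by
      intro u hu
      have hp : IsPGroup 2 (Subgroup.zpowers u) := by
        rw [IsPGroup.iff_card]
        exact ⟨1, by rw [Nat.card_zpowers, hu, pow_one]⟩
      obtain ⟨T, hT⟩ := hp.exists_le_sylow
      obtain ⟨k, hk⟩ := MulAction.exists_smul_eq G T (g⁻¹ • S)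
      have huT : k * u * k⁻¹ ∈ ((g⁻¹ • S : Sylow 2 G) : Subgroup G) := by
        rw [← hk, Sylow.coe_subgroup_smul, Subgroup.mem_pointwise_smul_iff_inv_smul_mem, ← map_inv,
          MulAut.smul_def, MulAut.conj_apply]
        have : k⁻¹ * (k * u * k⁻¹) * k⁻¹⁻¹ = u := by group
        rw [this]; exact hT (Subgroup.mem_zpowers u)
      have h1 := hS' huT
      rw [Subgroup.mem_centralizer_singleton_iff] at h1
      have h2 := hall _ (invol_conj hu k) (show x * (k * u * k⁻¹) = k * u * k⁻¹ * x from h1.symm)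
      exact h2.trans (isConj_iff.mpr ⟨k, rfl⟩ : IsConj u (k * u * k⁻¹)).symm
    intro u v hu hv
    exact (hux u hu).symm.trans (hux v hv)
  by_cases hall : ∀ a : G, orderOf a = 2 → Commute x a → IsConj x a
  · exact reduce hall
  exfalso
  push Not at hall
  obtain ⟨a, ha, cxa, hna⟩ := hall
  have hne : x ≠ a := fun e => hna (e ▸ IsConj.refl x)
  have hxa2 : orderOf (x * a) = 2 := invol_mul_of_commute hx ha cxa hne
  have ha1 : a ≠ 1 := invol_ne_one ha
  have d1 : x ≠ x * a := fun e => ha1 (by simpa using e.symm)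
  have d2 : a ≠ x * a := fun e => hx1 (by simpa using e.symm)
  have cxx : Commute x x := Commute.refl x
  have cxxa : Commute x (x * a) := cxx.mul_right cxa
  by_cases hxa : IsConj x (x * a)
  · exact false_of_fusion hx ha h3' cxa hna hxa
  -- x is isolated in its centralizer
  have hiso : ∀ y : G, IsConj x y → Commute x y → y = x := by
    intro y hy cy
    have hy2 : orderOf y = 2 := by
      obtain ⟨g, rfl⟩ := isConj_iff.mp hy
      exact invol_conj hx g
    rcases h3' x a (x * a) y hx ha hxa2 hy2 cxx cxa cxxa cy hne d1 d2 with e | e | e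
    · exact e
    · exact absurd (e ▸ hy) hna
    · exact absurd (e ▸ hy) hxa
  -- x is central in S
  have hxZ : ∀ s ∈ S, Commute x s := by
    by_contra hcon
    push Not at hcon
    obtain ⟨s0, hs0, hs0c⟩ := hcon
    let H0 : Subgroup (S : Subgroup G) := (Subgroup.centralizer ({x} : Set G)).subgroupOf S
    have hH0 : H0 < ⊤ := by
      rw [lt_top_iff_ne_top]
      intro htop
      have : (⟨s0, hs0⟩ : (S : Subgroup G)) ∈ H0 := htop ▸ Subgroup.mem_top _
      rw [Subgroup.mem_subgroupOf, Subgroup.mem_centralizer_singleton_iff] at this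
      exact hs0c this.symm
    have : Group.IsNilpotent (S : Subgroup G) := S.2.isNilpotent
    have hlt := Group.normalizerCondition_of_isNilpotent (G := (S : Subgroup G)) H0 hH0
    obtain ⟨n, hn, hn'⟩ := SetLike.exists_of_lt hlt
    have hxH0 : (⟨x, hS⟩ : (S : Subgroup G)) ∈ H0 := by
      rw [Subgroup.mem_subgroupOf, Subgroup.mem_centralizer_singleton_iff]
    have h1 := (Subgroup.mem_normalizer_iff.mp hn ⟨x, hS⟩).mp hxH0
    rw [Subgroup.mem_subgroupOf, Subgroup.mem_centralizer_singleton_iff] at h1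
    have h2 : (n : G) * x * (n : G)⁻¹ = x :=
      hiso _ (isConj_iff.mpr ⟨n, rfl⟩) (show x * ((n : G) * x * (n : G)⁻¹) = _ from h1.symm)
    apply hn'
    rw [Subgroup.mem_subgroupOf, Subgroup.mem_centralizer_singleton_iff]
    exact mul_inv_eq_iff_eq_mul.mp h2
  obtain ⟨N, hN, hNodd, hNc⟩ := hZ S x hx hS (by
    intro g hg
    exact hiso _ (isConj_iff.mpr ⟨g, rfl⟩) (hxZ _ hg))
  rcases hN.eq_bot_or_eq_top with h | h
  · -- x central, so conjugate only to itself; then normal closure of x has order 2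
    have hcen : ∀ g : G, g * x = x * g := by
      intro g
      have := hNc g
      rw [h, Subgroup.mem_bot] at this
      have h2 : x * g = (x * g * x⁻¹ * g⁻¹) * (g * x) := by group
      rw [h2, this, one_mul]
    have hnorm : (Subgroup.zpowers x).Normal := by
      refine ⟨fun n hn g => ?_⟩
      obtain ⟨k, rfl⟩ := Subgroup.mem_zpowers_iff.mp hn
      have : g * x ^ k * g⁻¹ = x ^ k := by
        rw [← conj_zpow, hcen g]; group
      rw [this]; exact Subgroup.zpow_mem_zpowers x k
    rcases hnorm.eq_bot_or_eq_top with h' | h'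
    · exact hx1 (Subgroup.zpowers_eq_bot.mp h')
    · have hamem : a ∈ Subgroup.zpowers x := h' ▸ Subgroup.mem_top a
      obtain ⟨k, hk⟩ := Subgroup.mem_zpowers_iff.mp hamem
      rw [← zpow_mod_orderOf, hx] at hk
      have hk2 : k % ((2 : ℕ) : ℤ) = 0 ∨ k % ((2 : ℕ) : ℤ) = 1 := by omega
      rcases hk2 with e | e
      · rw [e, zpow_zero] at hk
        exact ha1 hk.symm
      · rw [e, zpow_one] at hk
        exact hne hk
  · rw [h, Subgroup.card_top] at hNodd
    have h2 : 2 ∣ Nat.card G := hx ▸ orderOf_dvd_natCard x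
    exact (Nat.not_even_iff_odd.mpr hNodd) (even_iff_two_dvd.mpr h2)

end Cfsg.Agent.Lib.Helper60.ThreeInv
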