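import Mathlib
import Cfsg.Agent.Lib.Helper6.Invol
import Cfsg.Agent.Lib.Helper6.AltRec
import Cfsg.Agent.Lib.Helper38.Invol
import Cfsg.Agent.Lib.Helper60.ThreeInv

set_option autoImplicit false

/-!
A finite group in which the centralizer of every involution is a four-group, and which has two
non-commuting involutions, is isomorphic to the alternating group of degree five.
-/

namespace Cfsg.Agent.Lib.Helper60.FourCent

open Cfsg.Agent.Lib.Helper6 Cfsg.Agent.Lib.Helper60.ThreeInv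

variable {G : Type*} [Group G]

/-- every involution centralizer is elementary abelian of order four -/
structure Hyp (G : Type*) [Group G] : Prop where
  sq : ∀ t g : G, orderOf t = 2 → Commute t g → g * g = 1
  card4 : ∀ t : G, orderOf t = 2 → Nat.card ↥(Subgroup.centralizer ({t} : Set G)) = 4

/-- the centralizer of an element -/
abbrev Cz (a : G) : Subgroup G := Subgroup.centralizer ({a} : Set G)

/-- the normalizer of the centralizer of an element -/
abbrev Nm (a : G) : Subgroup G := Subgroup.normalizer ((Cz a : Subgroup G) : Set G)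

theorem mem_Cz {a g : G} : g ∈ Cz a ↔ Commute a g := by
  rw [Subgroup.mem_centralizer_singleton_iff]
  exact ⟨fun h => h.symm, fun h => h.symm⟩

theorem Hyp.comm (H : Hyp G) {t g h : G} (ht : orderOf t = 2) (hg : Commute t g)
    (hh : Commute t h) : Commute g h := by
  have h1 := H.sq t g ht hg
  have h2 := H.sq t h ht hh
  have h3 := H.sq t (g * h) ht (hg.mul_right hh)
  have e1 : g⁻¹ = g := inv_eq_of_mul_eq_one_left h1
  have e2 : h⁻¹ = h := inv_eq_of_mul_eq_one_left h2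
  have e3 : (g * h)⁻¹ = g * h := inv_eq_of_mul_eq_one_left h3
  show g * h = h * g
  rw [← e3, mul_inv_rev, e1, e2]

theorem Hyp.three [Finite G] (H : Hyp G) {t : G} (ht : orderOf t = 2) : AtMost3 t := by
  apply atMost3_of_card
  have h1 : Nat.card {u : ↥(Subgroup.centralizer ({t} : Set G)) // orderOf u = 2} <
      Nat.card ↥(Subgroup.centralizer ({t} : Set G)) :=
    Finite.card_subtype_lt (x := 1) (by rw [orderOf_one]; norm_num)
  rw [H.card4 t ht] at h1
  omega

theorem Hyp.more [Finite G] (H : Hyp G) {t : G} (ht : orderOf t = 2) :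
    ∃ s : G, orderOf s = 2 ∧ Commute t s ∧ s ≠ t := by
  by_contra hcon
  push Not at hcon
  have hle : Cz t ≤ Subgroup.zpowers t := by
    intro g hg
    rw [mem_Cz] at hg
    by_cases h1 : g = 1
    · rw [h1]; exact Subgroup.one_mem _
    · have h2 : orderOf g = 2 := invol_iff.mpr ⟨H.sq t g ht hg, h1⟩
      rw [hcon g h2 hg]
      exact Subgroup.mem_zpowers t
  have h1 := Subgroup.card_le_of_le hle
  rw [H.card4 t ht, Nat.card_zpowers, ht] at h1
  omega

theorem Hyp.enum [Finite G] (H : Hyp G) {t s g : G} (ht : orderOf t = 2) (hs : orderOf s = 2)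
    (hts : Commute t s) (hne : s ≠ t) (hg : Commute t g) :
    g = 1 ∨ g = t ∨ g = s ∨ g = t * s := by
  by_cases h1 : g = 1
  · exact Or.inl h1
  right
  have h2 : orderOf g = 2 := invol_iff.mpr ⟨H.sq t g ht hg, h1⟩
  have hs1 : s ≠ 1 := invol_ne_one hs
  have ht1 : t ≠ 1 := invol_ne_one ht
  exact H.three ht t s (t * s) g ht hs (invol_mul_of_commute ht hs hts hne.symm) h2
    (Commute.refl t) hts ((Commute.refl t).mul_right hts) hg hne.symm
    (fun e => hs1 (by simpa using e.symm)) (fun e => ht1 (by simpa using e.symm))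

theorem Hyp.exists_swap [Finite G] (H : Hyp G) {a b : G} (ha : orderOf a = 2)
    (hb : orderOf b = 2) (hab : ¬ Commute a b) : ∃ u : G, orderOf u = 2 ∧ u * a * u⁻¹ = b := by
  rcases Nat.even_or_odd (orderOf (a * b)) with he | ho
  · exfalso
    obtain ⟨m, hm⟩ := he
    have hm' : orderOf (a * b) = 2 * m := by omega
    have hm0 : m ≠ 0 := by
      intro h0
      have := orderOf_pos (a * b)
      omega
    obtain ⟨hz, c1, c2⟩ := invol_central_of_even ha hb hm' hm0
    exact hab (H.comm hz c1.symm c2.symm)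
  · obtain ⟨y, hy⟩ := Cfsg.Agent.Lib.Helper38.exists_conj_invol_of_odd a b (invol_mul_self ha)
      (invol_mul_self hb) ho
    exact ⟨y * a * y⁻¹, invol_conj ha y, hy⟩

theorem Hyp.invol_fix (H : Hyp G) {t b : G} (ht : orderOf t = 2) (hb : orderOf b = 2)
    (h : Commute (t * b * t⁻¹) b) : Commute t b := by
  by_cases hc : t * b * t⁻¹ = b
  · exact mul_inv_eq_iff_eq_mul.mp hc
  · have hc2 : orderOf (t * b * t⁻¹) = 2 := invol_conj hb t
    have hbc : orderOf (b * (t * b * t⁻¹)) = 2 :=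
      invol_mul_of_commute hb hc2 h.symm (Ne.symm hc)
    have htt : t * t = 1 := invol_mul_self ht
    have hti : t⁻¹ = t := invol_inv ht
    have e1 : t * (b * (t * b * t⁻¹)) * t⁻¹ = b * (t * b * t⁻¹) := by
      have : t * (b * (t * b * t⁻¹)) * t⁻¹ = (t * b * t⁻¹) * ((t * t) * b * (t * t)⁻¹) := by group
      rw [this, htt, one_mul, inv_one, mul_one, h.eq]
    have c1 : Commute t (b * (t * b * t⁻¹)) := mul_inv_eq_iff_eq_mul.mp e1
    have c2 : Commute (b * (t * b * t⁻¹)) b := (Commute.refl b).mul_left h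
    exact H.comm hbc c1.symm c2

theorem Hyp.Cz_eq (H : Hyp G) {a a' : G} (ha : orderOf a = 2) (ha' : orderOf a' = 2)
    (h : Commute a a') : Cz a = Cz a' := by
  ext g
  rw [mem_Cz, mem_Cz]
  exact ⟨fun hg => H.comm ha h hg, fun hg => H.comm ha' h.symm hg⟩

theorem Hyp.mem_Nm (H : Hyp G) {a g : G} (ha : orderOf a = 2) :
    g ∈ Nm a ↔ Commute (g * a * g⁻¹) a := by
  constructor
  · intro hg
    have h1 := (Subgroup.mem_normalizer_iff.mp hg a).mp (mem_Cz.mpr (Commute.refl a))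
    exact (mem_Cz.mp h1).symm
  · intro hc
    have ha' : orderOf (g * a * g⁻¹) = 2 := invol_conj ha g
    rw [Subgroup.mem_normalizer_iff]
    intro h
    rw [mem_Cz, mem_Cz]
    constructor
    · intro hh
      exact H.comm ha' hc ((Commute.conj_iff g).mpr hh)
    · intro hh
      exact (Commute.conj_iff g).mp (H.comm ha hc.symm hh)

theorem Hyp.conj_mem (_H : Hyp G) {a g v : G} (hg : g ∈ Nm a) (hv : Commute a v) :
    Commute a (g * v * g⁻¹) :=
  mem_Cz.mp ((Subgroup.mem_normalizer_iff.mp hg v).mp (mem_Cz.mpr hv))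

theorem Hyp.Nm_conj (H : Hyp G) {b g : G} (hb : orderOf b = 2) (hg : g ∈ Nm b) (k : G) :
    k * g * k⁻¹ ∈ Nm (k * b * k⁻¹) := by
  rw [H.mem_Nm (invol_conj hb k)]
  rw [H.mem_Nm hb] at hg
  have : k * g * k⁻¹ * (k * b * k⁻¹) * (k * g * k⁻¹)⁻¹ = k * (g * b * g⁻¹) * k⁻¹ := by group
  rw [this]
  exact (Commute.conj_iff k).mpr hg

theorem Hyp.eq_one_of (H : Hyp G) {a b e : G} (ha : orderOf a = 2) (hb : orderOf b = 2)
    (hab : ¬ Commute a b) (h1 : Commute a e) (h2 : e ∈ Nm b) : e = 1 := by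
  by_contra hne
  have he : orderOf e = 2 := invol_iff.mpr ⟨H.sq a e ha h1, hne⟩
  have h3 : Commute e b := H.invol_fix he hb ((H.mem_Nm hb).mp h2)
  exact hab (H.comm he h1.symm h3)

/-- `d` is a nontrivial element normalizing two different involution centralizers -/
structure Dat (a b d : G) : Prop where
  ha : orderOf a = 2
  hb : orderOf b = 2
  hab : ¬ Commute a b
  da : d ∈ Nm a
  db : d ∈ Nm b
  d1 : d ≠ 1

theorem Dat.inv {a b d : G} (D : Dat a b d) : Dat a b d⁻¹ :=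
  ⟨D.ha, D.hb, D.hab, Subgroup.inv_mem _ D.da, Subgroup.inv_mem _ D.db, inv_ne_one.mpr D.d1⟩

theorem Dat.not_comm (H : Hyp G) {a b d t : G} (D : Dat a b d) (ht : orderOf t = 2)
    (hat : Commute a t) : ¬ Commute t d := by
  intro h
  have htb : ¬ Commute t b := fun h' => D.hab (H.comm ht hat.symm h')
  exact D.d1 (H.eq_one_of ht D.hb htb h D.db)

theorem Dat.facts [Finite G] (H : Hyp G) {a b d : G} (D : Dat a b d) :
    orderOf (d * a * d⁻¹) = 2 ∧ Commute a (d * a * d⁻¹) ∧ d * a * d⁻¹ ≠ a ∧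
      d * (d * a * d⁻¹) * d⁻¹ = a * (d * a * d⁻¹) ∧ d * (a * (d * a * d⁻¹)) * d⁻¹ = a ∧
      d ^ 3 = 1 := by
  have ha := D.ha
  set a1 := d * a * d⁻¹ with ha1
  have h1 : orderOf a1 = 2 := invol_conj ha d
  have c1 : Commute a a1 := ((H.mem_Nm ha).mp D.da).symm
  have n1 : a1 ≠ a := fun e => D.not_comm H ha (Commute.refl a) (mul_inv_eq_iff_eq_mul.mp e).symm
  have h2 : orderOf (d * a1 * d⁻¹) = 2 := invol_conj h1 d
  have c2 : Commute a (d * a1 * d⁻¹) := H.conj_mem D.da c1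
  have n2 : d * a1 * d⁻¹ ≠ a1 := fun e => D.not_comm H h1 c1 (mul_inv_eq_iff_eq_mul.mp e).symm
  have h3 : orderOf (a * a1) = 2 := invol_mul_of_commute ha h1 c1 n1.symm
  have n3 : d * a1 * d⁻¹ ≠ a := by
    intro e
    apply D.not_comm H h3 ((Commute.refl a).mul_right c1)
    have : d * (a * a1) * d⁻¹ = a * a1 := by
      have e2 : d * (a * a1) * d⁻¹ = (d * a * d⁻¹) * (d * a1 * d⁻¹) := by group
      rw [e2, e, ← ha1, c1.eq]
    exact (mul_inv_eq_iff_eq_mul.mp this).symm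
  have e4 : d * a1 * d⁻¹ = a * a1 := by
    rcases H.enum ha h1 c1 n1 c2 with e | e | e | e
    · exact absurd e (invol_ne_one h2)
    · exact absurd e n3
    · exact absurd e n2
    · exact e
  have e5 : d * (a * a1) * d⁻¹ = a := by
    have e2 : d * (a * a1) * d⁻¹ = (d * a * d⁻¹) * (d * a1 * d⁻¹) := by group
    rw [e2, e4, ← ha1, ← mul_assoc, ← c1.eq, mul_assoc, invol_mul_self h1, mul_one]
  refine ⟨h1, c1, n1, e4, e5, ?_⟩
  apply H.eq_one_of ha D.hb D.hab _ (Subgroup.pow_mem _ D.db 3)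
  have : d ^ 3 * a * (d ^ 3)⁻¹ = a := by
    have e6 : d ^ 3 * a * (d ^ 3)⁻¹ = d * (d * (d * a * d⁻¹) * d⁻¹) * d⁻¹ := by
      rw [pow_succ, pow_two]; group
    rw [e6, ← ha1, e4, e5]
  exact (mul_inv_eq_iff_eq_mul.mp this).symm

theorem Dat.decomp [Finite G] (H : Hyp G) {a b d g : G} (D : Dat a b d) (hg : g ∈ Nm a) :
    ∃ v : G, Commute a v ∧ (g = v ∨ g = d * v ∨ g = d⁻¹ * v) := by
  obtain ⟨h1, c1, n1, e4, e5, -⟩ := D.facts H
  have ha := D.ha
  have hc : Commute a (g * a * g⁻¹) := ((H.mem_Nm ha).mp hg).symm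
  rcases H.enum ha h1 c1 n1 hc with e | e | e | e
  · exact absurd e (invol_ne_one (invol_conj ha g))
  · exact ⟨g, (mul_inv_eq_iff_eq_mul.mp e).symm, Or.inl rfl⟩
  · refine ⟨d⁻¹ * g, ?_, Or.inr (Or.inl (by group))⟩
    have : d⁻¹ * g * a * (d⁻¹ * g)⁻¹ = a := by
      have e2 : d⁻¹ * g * a * (d⁻¹ * g)⁻¹ = d⁻¹ * (g * a * g⁻¹) * d := by group
      rw [e2, e]; group
    exact (mul_inv_eq_iff_eq_mul.mp this).symm
  · refine ⟨d * g, ?_, Or.inr (Or.inr (by group))⟩
    have : d * g * a * (d * g)⁻¹ = a := by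
      have e2 : d * g * a * (d * g)⁻¹ = d * (g * a * g⁻¹) * d⁻¹ := by group
      rw [e2, e, e5]
    exact (mul_inv_eq_iff_eq_mul.mp this).symm

theorem Dat.no_invert [Finite G] (H : Hyp G) {a b d g : G} (D : Dat a b d) (hg : g ∈ Nm a)
    (h : g * d * g⁻¹ = d⁻¹) : False := by
  obtain ⟨-, -, -, -, -, e3⟩ := D.facts H
  obtain ⟨v, hv, hgv⟩ := D.decomp H hg
  have hvd : v * d * v⁻¹ = d⁻¹ := by
    rcases hgv with e | e | e
    · rw [← e]; exact h
    · rw [e] at h
      have : v * d * v⁻¹ = d⁻¹ * (d * v * d * (d * v)⁻¹) * d := by group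
      rw [this, h]; group
    · rw [e] at h
      have : v * d * v⁻¹ = d * (d⁻¹ * v * d * (d⁻¹ * v)⁻¹) * d⁻¹ := by group
      rw [this, h]; group
  have e1 : d⁻¹ * d⁻¹ = v * (d * v⁻¹ * d⁻¹) := by
    have : v * (d * v⁻¹ * d⁻¹) = (v * d * v⁻¹) * d⁻¹ := by group
    rw [this, hvd]
  have c1 : Commute a (d⁻¹ * d⁻¹) := by
    rw [e1]
    exact hv.mul_right (H.conj_mem D.da hv.inv_right)
  have e2 : d⁻¹ * d⁻¹ = 1 :=
    H.eq_one_of D.ha D.hb D.hab c1 (Subgroup.mul_mem _ (Subgroup.inv_mem _ D.db)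
      (Subgroup.inv_mem _ D.db))
  apply D.d1
  have : d = d ^ 3 * (d⁻¹ * d⁻¹) := by group
  rw [this, e3, e2, one_mul]

theorem Dat.mem_pow [Finite G] (H : Hyp G) {a b d e : G} (D : Dat a b d) (h1 : e ∈ Nm a)
    (h2 : e ∈ Nm b) : e = 1 ∨ e = d ∨ e = d⁻¹ := by
  obtain ⟨v, hv, hgv⟩ := D.decomp H h1
  rcases hgv with h | h | h
  · left
    rw [h]
    exact H.eq_one_of D.ha D.hb D.hab hv (h ▸ h2)
  · right; left
    have hv2 : v ∈ Nm b := by
      have : v = d⁻¹ * e := by rw [h]; group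
      rw [this]
      exact Subgroup.mul_mem _ (Subgroup.inv_mem _ D.db) h2
    rw [h, H.eq_one_of D.ha D.hb D.hab hv hv2, mul_one]
  · right; right
    have hv2 : v ∈ Nm b := by
      have : v = d * e := by rw [h]; group
      rw [this]
      exact Subgroup.mul_mem _ D.db h2
    rw [h, H.eq_one_of D.ha D.hb D.hab hv hv2, mul_one]

theorem Hyp.exists_dat [Finite G] (H : Hyp G) {a b : G} (ha : orderOf a = 2)
    (hb : orderOf b = 2) (hab : ¬ Commute a b) :
    ∃ u d : G, orderOf u = 2 ∧ u * a * u⁻¹ = b ∧ u * d * u⁻¹ = d⁻¹ ∧ Dat a b d := by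
  obtain ⟨b', hb', cb, nb⟩ := H.more hb
  have hab' : ¬ Commute a b' := fun h => hab (H.comm hb' h.symm cb.symm)
  obtain ⟨u, hu, e1⟩ := H.exists_swap ha hb hab
  obtain ⟨u', hu', e2⟩ := H.exists_swap ha hb' hab'
  have hui : u⁻¹ = u := invol_inv hu
  have hui' : u'⁻¹ = u' := invol_inv hu'
  have huu : u * u = 1 := invol_mul_self hu
  have huu' : u' * u' = 1 := invol_mul_self hu'
  have e1' : u * b * u⁻¹ = a := by
    rw [← e1]
    have : u * (u * a * u⁻¹) * u⁻¹ = (u * u) * a * (u * u)⁻¹ := by group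
    rw [this, huu]; group
  refine ⟨u, u * u', hu, e1, ?_, ha, hb, hab, ?_, ?_, ?_⟩
  · rw [mul_inv_rev, hui, hui', ← mul_assoc, huu, one_mul]
  · rw [H.mem_Nm ha]
    have : u * u' * a * (u * u')⁻¹ = u * (u' * a * u'⁻¹) * u⁻¹ := by group
    rw [this, e2, ← e1']
    exact (Commute.conj_iff u).mpr cb.symm
  · rw [H.mem_Nm hb]
    have : u * u' * b * (u * u')⁻¹ = u * (u' * b * u'⁻¹) * u⁻¹ := by group
    rw [this]
    have h1 : Commute (u' * b * u'⁻¹) a := by
      have : a = u' * b' * u'⁻¹ := by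
        rw [← e2]
        have : u' * (u' * a * u'⁻¹) * u'⁻¹ = (u' * u') * a * (u' * u')⁻¹ := by group
        rw [this, huu']; group
      rw [this]
      exact (Commute.conj_iff u').mpr cb
    have h2 := (Commute.conj_iff u).mpr h1
    rwa [e1] at h2
  · intro h
    apply nb
    have : u' = u := by
      have h3 : u' = u⁻¹ * (u * u') := by group
      rw [h3, h, mul_one, hui]
    rw [← e2, this, e1]

theorem Dat.exists_inverting [Finite G] (H : Hyp G) {a b d : G} (D : Dat a b d) :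
    ∃ u : G, orderOf u = 2 ∧ u * a * u⁻¹ = b ∧ u * d * u⁻¹ = d⁻¹ := by
  obtain ⟨u, d₁, hu, e1, e2, D₁⟩ := H.exists_dat D.ha D.hb D.hab
  refine ⟨u, hu, e1, ?_⟩
  rcases D₁.mem_pow H D.da D.db with h | h | h
  · exact absurd h D.d1
  · rw [h]; exact e2
  · rw [h, inv_inv]
    have : u * d₁⁻¹ * u⁻¹ = (u * d₁ * u⁻¹)⁻¹ := by group
    rw [this, e2, inv_inv]

theorem Dat.cent_le [Finite G] (H : Hyp G) {a b d c : G} (D : Dat a b d) (hc : Commute c d) :
    c ∈ Nm a := by
  by_contra hcon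
  have ha := D.ha
  have hr : orderOf (c * a * c⁻¹) = 2 := invol_conj ha c
  have hnr : ¬ Commute a (c * a * c⁻¹) := fun h => hcon ((H.mem_Nm ha).mpr h.symm)
  have hcd : c * d * c⁻¹ = d := by rw [hc.eq]; group
  have D' : Dat a (c * a * c⁻¹) d := by
    refine ⟨ha, hr, hnr, D.da, ?_, D.d1⟩
    have := H.Nm_conj ha D.da c
    rwa [hcd] at this
  obtain ⟨u, hu, e1, e2⟩ := D'.exists_inverting H
  have huu : u * u = 1 := invol_mul_self hu
  apply D.no_invert H (g := u * c)
  · rw [H.mem_Nm ha]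
    have : u * c * a * (u * c)⁻¹ = a := by
      have h1 : u * c * a * (u * c)⁻¹ = u * (c * a * c⁻¹) * u⁻¹ := by group
      rw [h1, ← e1]
      have h2 : u * (u * a * u⁻¹) * u⁻¹ = (u * u) * a * (u * u)⁻¹ := by group
      rw [h2, huu]; group
    rw [this]
  · have h1 : u * c * d * (u * c)⁻¹ = u * (c * d * c⁻¹) * u⁻¹ := by group
    rw [h1, hcd, e2]

theorem Dat.unique [Finite G] (H : Hyp G) {a b b' d : G} (D : Dat a b d) (D' : Dat a b' d) :
    Commute b b' := by
  obtain ⟨u, hu, e1, e2⟩ := D.exists_inverting H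
  obtain ⟨u', hu', e1', e2'⟩ := D'.exists_inverting H
  have huu : u * u = 1 := invol_mul_self hu
  have hc : Commute (u * u') d := by
    have : u * u' * d * (u * u')⁻¹ = d := by
      have h1 : u * u' * d * (u * u')⁻¹ = u * (u' * d * u'⁻¹) * u⁻¹ := by group
      rw [h1, e2']
      have h2 : u * d⁻¹ * u⁻¹ = (u * d * u⁻¹)⁻¹ := by group
      rw [h2, e2, inv_inv]
    exact mul_inv_eq_iff_eq_mul.mp this
  have h1 := (H.mem_Nm D.ha).mp (D.cent_le H hc)
  have h2 : u * u' * a * (u * u')⁻¹ = u * b' * u⁻¹ := by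
    rw [← e1']; group
  have h3 : a = u * b * u⁻¹ := by
    rw [← e1]
    have : u * (u * a * u⁻¹) * u⁻¹ = (u * u) * a * (u * u)⁻¹ := by group
    rw [this, huu]; group
  rw [h2] at h1
  have h4 : Commute (u * b' * u⁻¹) (u * b * u⁻¹) := by rw [← h3]; exact h1
  exact ((Commute.conj_iff u).mp h4).symm

theorem Dat.conj_surj [Finite G] (H : Hyp G) {a b d v₀ : G} (D : Dat a b d)
    (h : Commute a v₀) : ∃ v : G, Commute a v ∧ v * d * v⁻¹ = d * v₀ := by
  obtain ⟨h1, c1, n1, e4, e5, -⟩ := D.facts H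
  have ha := D.ha
  have hai : a⁻¹ = a := invol_inv ha
  have haa : a * a = 1 := invol_mul_self ha
  set a1 := d * a * d⁻¹ with ha1
  have h1i : a1⁻¹ = a1 := invol_inv h1
  have h11 : a1 * a1 = 1 := invol_mul_self h1
  -- inverse conjugation
  have f1 : d⁻¹ * a1 * d = a := by rw [ha1]; group
  have f2 : d⁻¹ * (a * a1) * d = a1 := by rw [← e4]; group
  have f3 : d⁻¹ * a * d = a * a1 := by
    have : d⁻¹ * a * d = d⁻¹ * (d * (a * a1) * d⁻¹) * d := by rw [e5]
    rw [this]; group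
  rcases H.enum ha h1 c1 n1 h with e | e | e | e
  · exact ⟨1, Commute.one_right a, by rw [e]; group⟩
  · refine ⟨a * a1, (Commute.refl a).mul_right c1, ?_⟩
    have : a * a1 * d * (a * a1)⁻¹ = d * ((d⁻¹ * (a * a1) * d) * (a * a1)⁻¹) := by group
    rw [this, f2, e, mul_inv_rev, hai, h1i, ← mul_assoc a1 a1 a, h11, one_mul]
  · refine ⟨a, Commute.refl a, ?_⟩
    have : a * d * a⁻¹ = d * ((d⁻¹ * a * d) * a⁻¹) := by group
    rw [this, f3, e, hai, c1.eq, mul_assoc, haa, mul_one]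
  · refine ⟨a1, c1, ?_⟩
    have : a1 * d * a1⁻¹ = d * ((d⁻¹ * a1 * d) * a1⁻¹) := by group
    rw [this, f1, e, h1i]

theorem Hyp.trans2 [Finite G] (H : Hyp G) {a b b' : G} (ha : orderOf a = 2)
    (hb : orderOf b = 2) (hb' : orderOf b' = 2) (hab : ¬ Commute a b) (hab' : ¬ Commute a b') :
    ∃ v : G, Commute a v ∧ Commute (v * b * v⁻¹) b' := by
  obtain ⟨-, d, -, -, -, D⟩ := H.exists_dat ha hb hab
  obtain ⟨-, d', -, -, -, D'⟩ := H.exists_dat ha hb' hab'
  have key : ∀ d' v₀ : G, Dat a b' d' → Commute a v₀ → d' = d * v₀ →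
      ∃ v : G, Commute a v ∧ Commute (v * b * v⁻¹) b' := by
    intro d' v₀ D' hv₀ hd'
    obtain ⟨v, hv, e⟩ := D.conj_surj H hv₀
    refine ⟨v, hv, ?_⟩
    have hva : v * a * v⁻¹ = a := by rw [← hv.eq]; group
    have D'' : Dat a (v * b * v⁻¹) d' := by
      refine ⟨ha, invol_conj hb v, ?_, D'.da, ?_, D'.d1⟩
      · intro h
        rw [← hva] at h
        exact hab ((Commute.conj_iff v).mp h)
      · rw [hd', ← e]
        exact H.Nm_conj hb D.db v
    exact D''.unique H D'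
  obtain ⟨v₀, hv₀, h⟩ := D.decomp H D'.da
  rcases h with h | h | h
  · exact absurd (H.eq_one_of ha hb' hab' (h ▸ hv₀) D'.db) D'.d1
  · exact key d' v₀ D' hv₀ h
  · refine key d'⁻¹ (d⁻¹ * v₀⁻¹ * d⁻¹⁻¹) D'.inv
      (H.conj_mem (Subgroup.inv_mem _ D.da) hv₀.inv_right) ?_
    rw [h]; group

theorem Hyp.isPGroup_Cz (H : Hyp G) {t : G} (ht : orderOf t = 2) : IsPGroup 2 (Cz t) := by
  intro g
  refine ⟨1, ?_⟩
  apply Subtype.ext
  rw [pow_one, pow_two]
  exact H.sq t g ht (mem_Cz.mp g.2)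

theorem Hyp.sylow_eq [Finite G] (H : Hyp G) {x : G} (hx : orderOf x = 2) (Q : Sylow 2 G) :
    ∃ z : G, orderOf z = 2 ∧ (Q : Subgroup G) = Cz z := by
  have hfact : Fact (Nat.Prime 2) := ⟨Nat.prime_two⟩
  have hne : (Q : Subgroup G) ≠ ⊥ := Q.ne_bot_of_dvd_card (hx ▸ orderOf_dvd_natCard x)
  have : Nontrivial (Q : Subgroup G) := (Subgroup.nontrivial_iff_ne_bot _).mpr hne
  obtain ⟨c, hc2, -, hcZ⟩ : ∃ c : G, orderOf c = 2 ∧ c ∈ Q ∧ ∀ s ∈ Q, Commute c s := by
    have := Q.2.center_nontrivial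
    have hpZ : IsPGroup 2 (Subgroup.center (Q : Subgroup G)) := Q.2.to_subgroup _
    have hdvd : 2 ∣ Nat.card (Subgroup.center (Q : Subgroup G)) := by
      obtain ⟨n, hn⟩ := IsPGroup.iff_card.mp hpZ
      have hn0 : n ≠ 0 := by
        rintro rfl
        have h1 : 1 < Nat.card (Subgroup.center (Q : Subgroup G)) := Finite.one_lt_card
        omega
      rw [hn]; exact dvd_pow_self 2 hn0
    obtain ⟨c, hc⟩ := exists_prime_orderOf_dvd_card' 2 hdvd
    refine ⟨((c : (Q : Subgroup G)) : G), ?_, (c : (Q : Subgroup G)).2, ?_⟩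
    · rw [Subgroup.orderOf_coe, Subgroup.orderOf_coe]; exact hc
    · intro s hs
      have := Subgroup.mem_center_iff.mp c.2 ⟨s, hs⟩
      exact (congrArg Subtype.val this).symm
  refine ⟨c, hc2, ?_⟩
  have hle : (Q : Subgroup G) ≤ Cz c := fun s hs => mem_Cz.mpr (hcZ s hs)
  exact (Q.is_maximal' (H.isPGroup_Cz hc2) hle).symm

theorem Hyp.exists_sylow [Finite G] (H : Hyp G) {t : G} (ht : orderOf t = 2) :
    ∃ Q : Sylow 2 G, (Q : Subgroup G) = Cz t := by
  obtain ⟨Q, hQ⟩ := (H.isPGroup_Cz ht).exists_le_sylow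
  obtain ⟨z, hz, e⟩ := H.sylow_eq ht Q
  refine ⟨Q, ?_⟩
  rw [e]
  have : t ∈ Cz z := e ▸ hQ (mem_Cz.mpr (Commute.refl t))
  exact H.Cz_eq hz ht (mem_Cz.mp this)

theorem smul_eq_Cz {Q : Sylow 2 G} {z : G} (e : (Q : Subgroup G) = Cz z) (g : G) :
    ((g • Q : Sylow 2 G) : Subgroup G) = Cz (g * z * g⁻¹) := by
  ext h
  rw [Sylow.coe_subgroup_smul, Subgroup.mem_pointwise_smul_iff_inv_smul_mem, ← map_inv,
    MulAut.smul_def, MulAut.conj_apply, e, mem_Cz, mem_Cz, inv_inv, ← Commute.conj_iff g]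
  have : g * (g⁻¹ * h * g) * g⁻¹ = h := by group
  rw [this]

theorem commute_of_Cz_eq {a b : G} (h : Cz a = Cz b) : Commute a b := by
  have : b ∈ Cz a := h ▸ mem_Cz.mpr (Commute.refl b)
  exact mem_Cz.mp this

theorem Hyp.card_sylow [Finite G] (H : Hyp G) {a b : G} (ha : orderOf a = 2)
    (hb : orderOf b = 2) (hab : ¬ Commute a b) : Nat.card (Sylow 2 G) = 5 := by
  obtain ⟨P₀, hP⟩ := H.exists_sylow ha
  obtain ⟨Q₀, hQ⟩ := H.exists_sylow hb
  let f : Option (Cz a) → Sylow 2 G := fun o => o.elim P₀ (fun v => (v : G) • Q₀)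
  have hne : ∀ v : G, Commute a v → P₀ ≠ v • Q₀ := by
    intro v hv h
    have h1 : Cz a = Cz (v * b * v⁻¹) := by
      rw [← hP, h, smul_eq_Cz hQ]
    have h2 := commute_of_Cz_eq h1
    have hva : v * a * v⁻¹ = a := by rw [← hv.eq]; group
    have h3 : Commute (v * a * v⁻¹) (v * b * v⁻¹) := by rw [hva]; exact h2
    exact hab ((Commute.conj_iff v).mp h3)
  have hf : Function.Bijective f := by
    constructor
    · intro o o' h
      rcases o with _ | v <;> rcases o' with _ | w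
      · rfl
      · exact absurd h (hne w (mem_Cz.mp w.2))
      · exact absurd h.symm (hne v (mem_Cz.mp v.2))
      · have h0 : (v : G) • Q₀ = (w : G) • Q₀ := h
        have h1 : Cz ((v : G) * b * (v : G)⁻¹) = Cz ((w : G) * b * (w : G)⁻¹) := by
          rw [← smul_eq_Cz hQ, ← smul_eq_Cz hQ, h0]
        have h2 := commute_of_Cz_eq h1
        have h3 : (w : G)⁻¹ * v ∈ Nm b := by
          rw [H.mem_Nm hb, ← Commute.conj_iff (w : G)]
          have : (w : G) * ((w : G)⁻¹ * v * b * ((w : G)⁻¹ * v)⁻¹) * (w : G)⁻¹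
              = (v : G) * b * (v : G)⁻¹ := by group
          rw [this]
          exact h2
        have h4 : Commute a ((w : G)⁻¹ * v) :=
          (mem_Cz.mp w.2).inv_right.mul_right (mem_Cz.mp v.2)
        have h5 := H.eq_one_of ha hb hab h4 h3
        congr 1
        apply Subtype.ext
        exact (inv_mul_eq_one.mp h5).symm
    · intro Q
      obtain ⟨z, hz, e⟩ := H.sylow_eq ha Q
      by_cases hc : Commute a z
      · refine ⟨none, ?_⟩
        apply Sylow.ext
        show (P₀ : Subgroup G) = Q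
        rw [hP, e]
        exact H.Cz_eq ha hz hc
      · obtain ⟨v, hv, hvz⟩ := H.trans2 ha hb hz hab hc
        refine ⟨some ⟨v, mem_Cz.mpr hv⟩, ?_⟩
        apply Sylow.ext
        show ((v • Q₀ : Sylow 2 G) : Subgroup G) = Q
        rw [smul_eq_Cz hQ, e]
        exact H.Cz_eq (invol_conj hb v) hz hvz
  rw [← Nat.card_congr (Equiv.ofBijective f hf), Finite.card_option, H.card4 a ha]

theorem Hyp.card_Nm [Finite G] (H : Hyp G) {a b : G} (ha : orderOf a = 2)
    (hb : orderOf b = 2) (hab : ¬ Commute a b) : Nat.card (Nm a) = 12 := by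
  obtain ⟨-, d, -, -, -, D⟩ := H.exists_dat ha hb hab
  obtain ⟨-, -, -, -, -, e3⟩ := D.facts H
  have hfact : Fact (Nat.Prime 3) := ⟨Nat.prime_three⟩
  have hord : orderOf d = 3 := orderOf_eq_prime e3 D.d1
  let f : Fin 3 × Cz a → Nm a := fun p =>
    ⟨d ^ (p.1 : ℕ) * (p.2 : G),
      Subgroup.mul_mem _ (Subgroup.pow_mem _ D.da _) (Subgroup.le_normalizer p.2.2)⟩
  have hf : Function.Bijective f := by
    constructor
    · rintro ⟨i, v⟩ ⟨j, w⟩ h
      have h0 : d ^ (i : ℕ) * (v : G) = d ^ (j : ℕ) * (w : G) := congrArg Subtype.val h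
      have h1 : (d ^ (j : ℕ))⁻¹ * d ^ (i : ℕ) = (w : G) * (v : G)⁻¹ := by
        rw [inv_mul_eq_iff_eq_mul, ← mul_assoc, ← h0]; group
      have h2 : Commute a ((d ^ (j : ℕ))⁻¹ * d ^ (i : ℕ)) := by
        rw [h1]
        exact (mem_Cz.mp w.2).mul_right (mem_Cz.mp v.2).inv_right
      have h3 := H.eq_one_of ha hb hab h2 (Subgroup.mul_mem _
        (Subgroup.inv_mem _ (Subgroup.pow_mem _ D.db _)) (Subgroup.pow_mem _ D.db _))
      have h4 : d ^ (i : ℕ) = d ^ (j : ℕ) := (inv_mul_eq_one.mp h3).symm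
      have h5 : (i : ℕ) = j := by
        have := pow_injOn_Iio_orderOf (x := d) (by rw [hord]; exact i.2) (by rw [hord]; exact j.2) h4
        exact this
      have h6 : (v : G) = w := by
        rw [h4] at h0
        exact mul_left_cancel h0
      exact Prod.ext (Fin.ext h5) (Subtype.ext h6)
    · intro g
      obtain ⟨v, hv, h⟩ := D.decomp H g.2
      rcases h with h | h | h
      · refine ⟨(0, ⟨v, mem_Cz.mpr hv⟩), Subtype.ext ?_⟩
        show d ^ ((0 : Fin 3) : ℕ) * v = g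
        rw [h]; simp
      · refine ⟨(1, ⟨v, mem_Cz.mpr hv⟩), Subtype.ext ?_⟩
        show d ^ ((1 : Fin 3) : ℕ) * v = g
        rw [h]; simp
      · refine ⟨(2, ⟨v, mem_Cz.mpr hv⟩), Subtype.ext ?_⟩
        show d ^ ((2 : Fin 3) : ℕ) * v = g
        have : d ^ 2 = d⁻¹ := by
          have h7 : d ^ 2 = d ^ 3 * d⁻¹ := by group
          rw [h7, e3, one_mul]
        rw [h]
        show d ^ 2 * v = d⁻¹ * v
        rw [this]
  rw [← Nat.card_congr (Equiv.ofBijective f hf), Nat.card_prod, H.card4 a ha, Nat.card_fin]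

/-- A finite group in which every involution centralizer is a four-group, with two non-commuting
involutions, is isomorphic to the alternating group of degree five. -/
theorem main [Finite G] (H : Hyp G) {a b : G} (ha : orderOf a = 2) (hb : orderOf b = 2)
    (hab : ¬ Commute a b) : Nonempty (G ≃* alternatingGroup (Fin 5)) := by
  have hfact : Fact (Nat.Prime 2) := ⟨Nat.prime_two⟩
  obtain ⟨P₀, hP⟩ := H.exists_sylow ha
  have h5 := H.card_sylow ha hb hab
  have h12 := H.card_Nm ha hb hab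
  have hG : Nat.card G = 60 := by
    have h1 := Sylow.card_eq_index_normalizer P₀
    have h0 : Subgroup.normalizer (P₀ : Set G) = Nm a := by
      show Subgroup.normalizer ((P₀ : Subgroup G) : Set G) = _
      rw [hP]
    rw [h0] at h1
    have h2 := (Nm a).card_mul_index
    rw [h12, ← h1, h5] at h2
    omega
  apply mulEquiv_alternatingGroup_of_injective (MulAction.toPermHom G (Sylow 2 G)) ?_ 5 h5
    (by rw [hG]; decide)
  rw [injective_iff_map_eq_one]
  intro g hg
  by_contra hg1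
  have hfix : ∀ Q : Sylow 2 G, g • Q = Q := fun Q => by
    have := congrArg (fun σ => σ Q) hg
    simpa using this
  have hN : ∀ t : G, orderOf t = 2 → g ∈ Nm t := by
    intro t ht
    obtain ⟨Q, hQ⟩ := H.exists_sylow ht
    have h1 := Sylow.smul_eq_iff_mem_normalizer.mp (hfix Q)
    have h0 : Subgroup.normalizer (Q : Set G) = Nm t := by
      show Subgroup.normalizer ((Q : Subgroup G) : Set G) = _
      rw [hQ]
    rwa [h0] at h1
  have hb'' : orderOf (a * b * a⁻¹) = 2 := invol_conj hb a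
  have hab'' : ¬ Commute a (a * b * a⁻¹) := by
    intro h
    have haa : a * a * a⁻¹ = a := by group
    have h2 : Commute (a * a * a⁻¹) (a * b * a⁻¹) := by rw [haa]; exact h
    exact hab ((Commute.conj_iff a).mp h2)
  have D : Dat a b g := ⟨ha, hb, hab, hN a ha, hN b hb, hg1⟩
  have D' : Dat a (a * b * a⁻¹) g := ⟨ha, hb'', hab'', hN a ha, hN _ hb'', hg1⟩
  exact hab (H.invol_fix ha hb (D.unique H D').symm)

end Cfsg.Agent.Lib.Helper60.FourCent
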