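import Mathlib
import Cfsg.Agent.Lib.Helper11.SimpleOrder
import Cfsg.Agent.Lib.Helper75.SylowPerm
import Cfsg.Agent.Lib.Helper75.SimpleIndex
import Cfsg.Agent.Lib.Helper96.SylowAct
import Cfsg.Agent.Lib.Helper58.CyclicSylow

/-! Simple groups of order 360, part a: Sylow 5 and Sylow 3 structure (TI). -/

set_option autoImplicit false

namespace Cfsg.Agent.Lib.Helper60.O360

open Subgroup MulAction

variable {G : Type*} [Group G]

/-- working hypothesis: order 360 and no subgroup of index 6 -/
structure Hyp (G : Type*) [Group G] : Prop where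
  card : Nat.card G = 360
  no6 : ∀ H : Subgroup G, H.index ≠ 6

variable [Finite G] [IsSimpleGroup G]

instance fact5 : Fact (Nat.Prime 5) := ⟨by norm_num⟩

theorem not_cyclic (h : Nat.card G = 360) : ¬ IsCyclic G := by
  intro hc
  let _ : CommGroup G := hc.commGroup
  have := IsSimpleGroup.prime_card (α := G)
  rw [h] at this
  exact absurd this (by norm_num)

theorem card_le (hy : Hyp G) (H : Subgroup G) (hH : H ≠ ⊤) : Nat.card H ≤ 45 := by
  have h1 := Cfsg.Agent.Lib.Helper11.two_mul_card_dvd_factorial (not_cyclic hy.card) H hH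
  have h2 := H.card_mul_index
  have h3 := hy.no6 H
  rw [hy.card] at h1 h2
  by_contra hlt
  push Not at hlt
  have h4 : H.index < 8 := by
    by_contra h5
    push Not at h5
    nlinarith
  have h5 : H.index ∣ 360 := Dvd.intro_left _ h2
  generalize H.index = n at *
  interval_cases n <;> simp_all (config := {decide := true}) [Nat.factorial]

theorem normal_false (hy : Hyp G) (H : Subgroup G) (hN : H.Normal) (h1 : Nat.card H ≠ 1)
    (h2 : Nat.card H ≠ 360) : False := by
  rcases hN.eq_bot_or_eq_top with h | h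
  · exact h1 (by rw [h]; simp)
  · exact h2 (by rw [h, Subgroup.card_top, hy.card])

theorem normalizer_card_le (hy : Hyp G) (K : Subgroup G) (h1 : Nat.card K ≠ 1)
    (h2 : Nat.card K ≠ 360) : Nat.card (normalizer (K : Set G)) ≤ 45 := by
  apply card_le hy
  intro h
  exact normal_false hy K (normalizer_eq_top_iff.1 h) h1 h2


/-! ### Sylow 5 -/

theorem card5 (hy : Hyp G) (R : Sylow 5 G) : Nat.card R = 5 := by
  have := Cfsg.Agent.Lib.Helper75.card_sylow_eq_pow R 1 72 (by rw [hy.card]; norm_num) (by norm_num)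
  simpa using this

theorem norm5' (hy : Hyp G) (R : Sylow 5 G) :
    Nat.card (normalizer ((R : Subgroup G) : Set G)) = 10 := by
  obtain ⟨d, hd, h1, h2, h3, h4, -, -⟩ := Cfsg.Agent.Lib.Helper11.sylow_numerics
    (not_cyclic hy.card) 5 1 72 (by norm_num) (by norm_num) (by rw [hy.card]; norm_num) R
  have h5 := (normalizer ((R : Subgroup G) : Set G)).card_mul_index
  have h6 := hy.no6 (normalizer ((R : Subgroup G) : Set G))
  rw [hd] at h5 h6
  rw [hy.card] at h5
  have h7 : d ≤ 72 := Nat.le_of_dvd (by norm_num) h1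
  have h8 : d = 36 := by
    interval_cases d <;> simp_all (config := {decide := true})
  subst h8
  omega

theorem cent5' (hy : Hyp G) (R : Sylow 5 G) :
    Nat.card (centralizer ((R : Subgroup G) : Set G)) = 5 := by
  obtain ⟨e, he1, he2, he3⟩ := Cfsg.Agent.Lib.Helper96.normalizer_card_of_prime R (card5 hy R)
    (by rw [hy.card]; norm_num)
  rw [norm5' hy R] at he3
  have h1 : e ≤ 4 := Nat.le_of_dvd (by norm_num) he1
  interval_cases e <;> omega

theorem exists_sylow5 (hy : Hyp G) (c : G) (hc : orderOf c = 5) :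
    ∃ R : Sylow 5 G, (R : Subgroup G) = zpowers c := by
  have hp : IsPGroup 5 (zpowers c) := Cfsg.Agent.Lib.Helper96.isPGroup_zpowers c 5 1 (by simpa using hc)
  obtain ⟨R, hR⟩ := hp.exists_le_sylow
  refine ⟨R, (Subgroup.eq_of_le_of_card_ge hR ?_).symm⟩
  rw [card5 hy R, Nat.card_zpowers, hc]

theorem cent5 (hy : Hyp G) (c : G) (hc : orderOf c = 5) (g : G) (hg : Commute g c) :
    g ∈ zpowers c := by
  obtain ⟨R, hR⟩ := exists_sylow5 hy c hc
  have h1 : zpowers c ≤ centralizer ((R : Subgroup G) : Set G) := by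
    rw [hR]
    intro x hx
    rw [Subgroup.mem_centralizer_iff]
    intro y hy'
    obtain ⟨i, rfl⟩ := hx
    obtain ⟨j, rfl⟩ := hy'
    exact ((Commute.refl c).zpow_zpow j i).eq
  have h2 : zpowers c = centralizer ((R : Subgroup G) : Set G) :=
    Subgroup.eq_of_le_of_card_ge h1 (by rw [cent5' hy R, Nat.card_zpowers, hc])
  rw [h2, hR, Subgroup.mem_centralizer_iff]
  intro y hy'
  obtain ⟨j, rfl⟩ := hy'
  exact (hg.zpow_right j).eq.symm

theorem norm5 (hy : Hyp G) (c : G) (hc : orderOf c = 5) :
    Nat.card (normalizer ((zpowers c : Subgroup G) : Set G)) = 10 := by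
  obtain ⟨R, hR⟩ := exists_sylow5 hy c hc
  rw [← hR]; exact norm5' hy R

/-! ### Sylow 3 -/

theorem card3 (hy : Hyp G) (P : Sylow 3 G) : Nat.card P = 9 := by
  have := Cfsg.Agent.Lib.Helper75.card_sylow_eq_pow P 2 40 (by rw [hy.card]; norm_num) (by norm_num)
  simpa using this

theorem norm3 (hy : Hyp G) (P : Sylow 3 G) :
    Nat.card (normalizer ((P : Subgroup G) : Set G)) = 36 := by
  obtain ⟨d, hd, h1, h2, h3, h4, h4', -⟩ := Cfsg.Agent.Lib.Helper11.sylow_numerics
    (not_cyclic hy.card) 3 2 40 (by norm_num) (by norm_num) (by rw [hy.card]; norm_num) P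
  have h5 := (normalizer ((P : Subgroup G) : Set G)).card_mul_index
  rw [hd] at h5
  rw [hy.card] at h5
  have h7 : d ≤ 40 := Nat.le_of_dvd (by norm_num) h1
  have h4'' := h4' le_rfl
  have h8 : d = 10 := by
    interval_cases d <;> simp_all (config := {decide := true})
  subst h8
  omega

theorem num3 (hy : Hyp G) : Nat.card (Sylow 3 G) = 10 := by
  obtain ⟨P⟩ : Nonempty (Sylow 3 G) := inferInstance
  have h1 := Cfsg.Agent.Lib.Helper96.card_sylow_mul_card_normalizer P
  rw [norm3 hy P, hy.card] at h1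
  omega

theorem comm3 (hy : Hyp G) (P : Sylow 3 G) (x y : G) (hx : x ∈ (P : Subgroup G))
    (hy' : y ∈ (P : Subgroup G)) : x * y = y * x := by
  have h := IsPGroup.commutative_of_card_eq_prime_sq (p := 3) (G := (P : Subgroup G))
    (by rw [card3 hy P]; norm_num)
  have := h ⟨x, hx⟩ ⟨y, hy'⟩
  exact congrArg Subtype.val this


omit [Finite G] [IsSimpleGroup G] in
theorem relIndex_mul_card' {H K : Subgroup G} (h : H ≤ K) :
    H.relIndex K * Nat.card H = Nat.card K := by
  have := Subgroup.relIndex_mul_relIndex ⊥ H K bot_le h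
  rw [Subgroup.relIndex_bot_left, Subgroup.relIndex_bot_left] at this
  rw [mul_comm]; exact this

/-- a subgroup of order 4 has normalizer of order divisible by 8 -/
theorem eight_dvd_normalizer (hy : Hyp G) (L : Subgroup G) (hL : Nat.card L = 4) :
    8 ∣ Nat.card (normalizer (L : Set G)) := by
  obtain ⟨K, hK, hLK⟩ := Sylow.exists_subgroup_card_pow_prime_le 2 (n := 2) (m := 3)
    (by rw [hy.card]; norm_num) L (by rw [hL]; norm_num) (by norm_num)
  have h1 := relIndex_mul_card' hLK
  rw [hL, hK] at h1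
  have h2 : (L.subgroupOf K).index = 2 := by
    have : L.relIndex K = 2 := by omega
    exact this
  have h3 : (L.subgroupOf K).Normal := Subgroup.normal_of_index_eq_two h2
  have h4 : K ≤ normalizer (L : Set G) := (Subgroup.normal_subgroupOf_iff_le_normalizer hLK).1 h3
  have h5 := Subgroup.card_dvd_of_le h4
  rw [hK] at h5
  simpa using h5

theorem ti (hy : Hyp G) (P Q : Sylow 3 G) (hPQ : P ≠ Q) : ((P : Subgroup G) ⊓ Q) = ⊥ := by
  by_contra hD
  set D : Subgroup G := (P : Subgroup G) ⊓ Q with hDdef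
  set M : Subgroup G := centralizer (D : Set G) with hM
  have hPM : (P : Subgroup G) ≤ M := fun x hx => by
    rw [hM, mem_centralizer_iff]; intro d hd; exact comm3 hy P d x hd.1 hx
  have hQM : (Q : Subgroup G) ≤ M := fun x hx => by
    rw [hM, mem_centralizer_iff]; intro d hd; exact comm3 hy Q d x hd.2 hx
  have hMtop : M ≠ ⊤ := by
    intro h
    have h1 : (D : Set G) ⊆ center G := Subgroup.centralizer_eq_top_iff_subset.1 h
    rw [Cfsg.Agent.Lib.Helper11.center_eq_bot_of_simple (not_cyclic hy.card)] at h1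
    exact hD (le_bot_iff.1 h1)
  have hM45 : Nat.card M ≤ 45 := card_le hy M hMtop
  let P' : Sylow 3 M := P.subtype hPM
  let Q' : Sylow 3 M := Q.subtype hQM
  have hne : P' ≠ Q' := fun h => hPQ (Sylow.subtype_injective h)
  have hn1 : Nat.card (Sylow 3 M) ≡ 1 [MOD 3] := card_sylow_modEq_one 3 M
  have hn2 : 1 < Nat.card (Sylow 3 M) := Finite.one_lt_card_iff_nontrivial.2 ⟨P', Q', hne⟩
  have hn3 : Nat.card (Sylow 3 M) = (normalizer ((P' : Subgroup M) : Set M)).index :=
    Sylow.card_eq_index_normalizer P'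
  have hn4 := (normalizer ((P' : Subgroup M) : Set M)).card_mul_index
  have hP'c : Nat.card (P' : Subgroup M) = 9 := by
    rw [← card3 hy P]
    exact Nat.card_congr (Subgroup.subgroupOfEquivOfLe hPM).toEquiv
  have hn5 : 9 ∣ Nat.card (normalizer ((P' : Subgroup M) : Set M)) := by
    rw [← hP'c]; exact Subgroup.card_dvd_of_le Subgroup.le_normalizer
  rw [← hn3] at hn4
  obtain ⟨k, hk⟩ := hn5
  have hn6 : 4 ≤ Nat.card (Sylow 3 M) := by
    unfold Nat.ModEq at hn1
    omega
  have hk1 : k = 1 := by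
    rw [hk] at hn4
    by_contra hk1
    have hk0 : k ≠ 0 := by
      rintro rfl
      have : 0 < Nat.card M := Nat.card_pos
      simp at hn4
      omega
    have : 2 ≤ k := by omega
    nlinarith
  subst hk1
  have hn7 : Nat.card (Sylow 3 M) = 4 := by
    rw [hk] at hn4
    unfold Nat.ModEq at hn1
    omega
  have hMc : Nat.card M = 36 := by rw [← hn4, hk, hn7]
  have hNP : normalizer ((P' : Subgroup M) : Set M) = P' :=
    (Subgroup.eq_of_le_of_card_ge Subgroup.le_normalizer (by rw [hk, hP'c])).symm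
  obtain ⟨L, hLM, hLn, -, hLi, -, -⟩ := Cfsg.Agent.Lib.Helper58.exists_rel_normal_complement P M hPM
    (by
      intro n hn hnN
      have h1 : (⟨n, hn⟩ : M) ∈ normalizer ((P' : Subgroup M) : Set M) := by
        rw [Subgroup.mem_normalizer_iff]
        intro h
        have := (Subgroup.mem_normalizer_iff.1 hnN) (h : G)
        exact this
      rw [hNP] at h1
      have h2 : n ∈ (P : Subgroup G) := h1
      rw [mem_centralizer_iff]
      intro y hy'
      exact comm3 hy P y n hy' h2)
  have hLc : Nat.card L = 4 := by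
    have := relIndex_mul_card' hLM
    rw [hLi, card3 hy P, hMc] at this
    omega
  have hMN : M ≤ normalizer (L : Set G) := by
    intro x hx
    rw [Subgroup.mem_normalizer_iff]
    intro l
    refine ⟨hLn x hx l, fun h => ?_⟩
    have := hLn x⁻¹ (M.inv_mem hx) _ h
    simpa [mul_assoc] using this
  have h8 := eight_dvd_normalizer hy L hLc
  have h36 := Subgroup.card_dvd_of_le hMN
  rw [hMc] at h36
  have h45 := normalizer_card_le hy L (by rw [hLc]; norm_num) (by rw [hLc]; norm_num)
  have hpos : 0 < Nat.card (normalizer (L : Set G)) := Nat.card_pos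
  omega

theorem ti' (hy : Hyp G) (P Q : Sylow 3 G) (x : G) (hxP : x ∈ (P : Subgroup G))
    (hxQ : x ∈ (Q : Subgroup G)) (hx : x ≠ 1) : P = Q := by
  by_contra h
  have h1 := ti hy P Q h
  have h2 : x ∈ ((P : Subgroup G) ⊓ Q) := ⟨hxP, hxQ⟩
  rw [h1, Subgroup.mem_bot] at h2
  exact hx h2

end Cfsg.Agent.Lib.Helper60.O360
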