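import Mathlib
import Cfsg.Agent.Lib.Helper60.O360a

/-! Simple groups of order 360, part b: involutions and the action on the ten Sylow 3-subgroups. -/

set_option autoImplicit false

namespace Cfsg.Agent.Lib.Helper60.O360

open Subgroup MulAction

variable {G : Type*} [Group G] [Finite G] [IsSimpleGroup G]

theorem fix3 (hy : Hyp G) (P : Sylow 3 G) (x : G) (hx : x ∈ (P : Subgroup G)) (hx1 : x ≠ 1) :
    fixedBy (Sylow 3 G) x = {P} := by
  ext Q
  rw [mem_fixedBy, Set.mem_singleton_iff]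
  constructor
  · intro h
    have h1 : zpowers x ≤ (Q : Subgroup G) := by
      apply Cfsg.Agent.Lib.Helper96.le_sylow_of_fixes (zpowers x)
        (P.2.to_le ((zpowers_le).2 hx)) Q
      have h2 : zpowers x ≤ stabilizer G Q := (zpowers_le).2 (mem_stabilizer_iff.2 h)
      intro d hd
      exact mem_stabilizer_iff.1 (h2 hd)
    exact (ti' hy P Q x hx (h1 (mem_zpowers x)) hx1).symm
  · rintro rfl
    exact Cfsg.Agent.Lib.Helper96.sylow_smul_self Q x hx

theorem faithful3 (hy : Hyp G) (g : G) (hg : ∀ Q : Sylow 3 G, g • Q = Q) : g = 1 :=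
  Cfsg.Agent.Lib.Helper96.sylow_faithful (by rw [num3 hy]; norm_num) g hg

theorem fix2 (hy : Hyp G) (t : G) (ht : orderOf t = 2) :
    Nat.card (fixedBy (Sylow 3 G) t) = 2 ∨ Nat.card (fixedBy (Sylow 3 G) t) = 6 := by
  obtain ⟨k, hk⟩ := Cfsg.Agent.Lib.Helper75.card_eq_fixedBy_add_four_mul (X := Sylow 3 G)
    (by rw [hy.card]; norm_num) t ht
  have h1 := Cfsg.Agent.Lib.Helper96.card_fixedBy_ne (Ω := Sylow 3 G) (faithful3 hy) t
    (by rintro rfl; simp at ht)
  rw [num3 hy] at hk h1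
  omega

theorem orderOf_mem3 (P : Sylow 3 G) (x : G) (hx : x ∈ (P : Subgroup G)) :
    ∃ k, orderOf x = 3 ^ k := by
  obtain ⟨k, hk⟩ := P.2 ⟨x, hx⟩
  have h1 : x ^ 3 ^ k = 1 := by simpa using congrArg Subtype.val hk
  obtain ⟨j, -, hj⟩ := (Nat.dvd_prime_pow Nat.prime_three).1 (orderOf_dvd_of_pow_eq_one h1)
  exact ⟨j, hj⟩

/-- no involution commutes with a nontrivial 3-element -/
theorem not_commute23 (hy : Hyp G) (t : G) (ht : orderOf t = 2) (P : Sylow 3 G) (x : G)
    (hx : x ∈ (P : Subgroup G)) (hx1 : x ≠ 1) : ¬ Commute t x := by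
  intro hc
  obtain ⟨k, hk⟩ := orderOf_mem3 P x hx
  have h1 := Cfsg.Agent.Lib.Helper96.card_fixedBy_modEq_one (Ω := Sylow 3 G) t x hc 3 k hk P
    (fix3 hy P x hx hx1)
  unfold Nat.ModEq at h1
  rcases fix2 hy t ht with h | h <;> rw [h] at h1 <;> omega

theorem inverts (hy : Hyp G) (t : G) (ht : orderOf t = 2) (P : Sylow 3 G)
    (htP : t ∈ normalizer ((P : Subgroup G) : Set G)) (x : G) (hx : x ∈ (P : Subgroup G)) :
    t * x * t⁻¹ = x⁻¹ := by
  have ht2 : t * t = 1 := by rw [← pow_two, ← ht, pow_orderOf_eq_one]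
  have hti : t⁻¹ = t := inv_eq_of_mul_eq_one_left ht2
  have h1 : t * x * t⁻¹ ∈ (P : Subgroup G) := (mem_normalizer_iff.1 htP x).1 hx
  have h2 : x * (t * x * t⁻¹) ∈ (P : Subgroup G) := mul_mem hx h1
  have h3 : Commute t (x * (t * x * t⁻¹)) := by
    have h4 := comm3 hy P x (t * x * t⁻¹) hx h1
    show t * (x * (t * x * t⁻¹)) = x * (t * x * t⁻¹) * t
    rw [h4, hti]
    calc t * (t * x * t * x) = (t * t) * x * t * x := by group
      _ = x * t * x := by rw [ht2, one_mul]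
      _ = x * t * x * (t * t) := by rw [ht2, mul_one]
      _ = t * x * t * x * t := by
        have h5 : x * (t * x * t) = t * x * t * x := by rw [hti] at h4; exact h4
        calc x * t * x * (t * t) = (x * (t * x * t)) * t := by group
          _ = t * x * t * x * t := by rw [h5]
  by_contra hne
  apply not_commute23 hy t ht P _ h2 _ h3
  intro h5
  exact hne (eq_inv_of_mul_eq_one_right h5)


theorem mem_normalizer_of_smul (P : Sylow 3 G) (t : G) (h : t • P = P) :
    t ∈ normalizer ((P : Subgroup G) : Set G) := by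
  exact Sylow.smul_eq_iff_mem_normalizer.1 h

theorem smul_of_mem_normalizer (P : Sylow 3 G) (t : G)
    (h : t ∈ normalizer ((P : Subgroup G) : Set G)) : t • P = P :=
  Sylow.smul_eq_iff_mem_normalizer.2 h

/-- `P` is transitive on the other nine Sylow 3-subgroups -/
theorem exists_smul_eq (hy : Hyp G) (P Q₀ Q₁ : Sylow 3 G) (h0 : Q₀ ≠ P) (h1 : Q₁ ≠ P) :
    ∃ x ∈ (P : Subgroup G), x • Q₀ = Q₁ := by
  classical
  have hc := Cfsg.Agent.Lib.Helper96.card_orbit_mul_card_inf P Q₀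
  rw [ti hy P Q₀ h0.symm, card3 hy P] at hc
  simp only [Subgroup.card_bot, mul_one] at hc
  by_contra hcon
  push Not at hcon
  have hQ1 : Q₁ ∉ orbit (P : Subgroup G) Q₀ := by
    rintro ⟨⟨x, hx⟩, hxe⟩
    exact hcon x hx hxe
  have hP : P ∉ insert Q₁ (orbit (P : Subgroup G) Q₀) := by
    rintro (h | ⟨⟨x, hx⟩, hxe⟩)
    · exact h1 h.symm
    · apply h0
      have h2 : x • Q₀ = P := hxe
      have h3 : x⁻¹ • P = P := Cfsg.Agent.Lib.Helper96.sylow_smul_self P x⁻¹ (inv_mem hx)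
      rw [← h3, ← h2, inv_smul_smul]
  have h2 : (insert P (insert Q₁ (orbit (P : Subgroup G) Q₀))).ncard = 11 := by
    rw [Set.ncard_insert_of_notMem hP (Set.toFinite _), Set.ncard_insert_of_notMem hQ1 (Set.toFinite _),
      ← Nat.card_coe_set_eq, hc]
  have h3 := Set.ncard_le_card (insert P (insert Q₁ (orbit (P : Subgroup G) Q₀)))
  rw [h2, num3 hy] at h3
  omega

theorem fix2_unique (hy : Hyp G) (t : G) (ht : orderOf t = 2) (P Q₀ Q₁ : Sylow 3 G)
    (hP : t • P = P) (hQ0 : t • Q₀ = Q₀) (hQ1 : t • Q₁ = Q₁) (h0 : Q₀ ≠ P) (h1 : Q₁ ≠ P) :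
    Q₀ = Q₁ := by
  obtain ⟨x, hx, rfl⟩ := exists_smul_eq hy P Q₀ Q₁ h0 h1
  have hinv := inverts hy t ht P (mem_normalizer_of_smul P t hP) x hx
  have h2 : t * x = x⁻¹ * t := by rw [← hinv]; group
  have h3 : x⁻¹ • Q₀ = x • Q₀ := by
    calc x⁻¹ • Q₀ = x⁻¹ • t • Q₀ := by rw [hQ0]
      _ = (x⁻¹ * t) • Q₀ := by rw [mul_smul]
      _ = (t * x) • Q₀ := by rw [h2]
      _ = x • Q₀ := by rw [mul_smul, hQ1]
  have h4 : (x * x) • Q₀ = Q₀ := by
    rw [mul_smul, ← h3, smul_inv_smul]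
  have h5 : x * x = 1 := by
    by_contra hne
    have h6 := fix3 hy P (x * x) (mul_mem hx hx) hne
    have h7 : Q₀ ∈ fixedBy (Sylow 3 G) (x * x) := mem_fixedBy.2 h4
    rw [h6] at h7
    exact h0 h7
  have h6 : x ^ 9 = 1 := by
    have := pow_card_eq_one' (G := (P : Subgroup G)) (x := ⟨x, hx⟩)
    rw [card3 hy P] at this
    simpa using congrArg Subtype.val this
  have h7 : x = 1 := by
    calc x = x ^ 9 * ((x * x)⁻¹) ^ 4 := by group
      _ = 1 := by rw [h6, h5]; simp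
  rw [h7, one_smul]

omit [IsSimpleGroup G] in
theorem eq_sq_of_mem_zpowers (s x : G) (hs : orderOf s = 4) (hx : x ∈ zpowers s) (hx2 : x ^ 2 = 1)
    (hx1 : x ≠ 1) : x = s ^ 2 := by
  classical
  rw [mem_zpowers_iff_mem_range_orderOf, hs] at hx
  simp only [Finset.mem_image, Finset.mem_range] at hx
  obtain ⟨k, hk, rfl⟩ := hx
  have h4 : s ^ 4 = 1 := by rw [← hs, pow_orderOf_eq_one]
  have hn2 : s ^ 2 ≠ 1 := by
    intro h
    have := orderOf_dvd_of_pow_eq_one h
    rw [hs] at this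
    omega
  interval_cases k
  · simp at hx1
  · simp at hx2; exact absurd hx2 hn2
  · rfl
  · exfalso
    apply hn2
    calc s ^ 2 = (s ^ 3) ^ 2 * (s ^ 4)⁻¹ := by group
      _ = 1 := by rw [hx2, h4]; simp

omit [IsSimpleGroup G] in
theorem exists_four (H : Subgroup G) (h4 : 4 ∣ Nat.card H) (u : G) (huH : u ∈ H)
    (hu : orderOf u = 2) : ∃ K : Subgroup G, K ≤ H ∧ Nat.card K = 4 ∧ u ∈ K := by
  have h1 : Nat.card (zpowers (⟨u, huH⟩ : H)) = 2 ^ 1 := by
    rw [Nat.card_zpowers, pow_one, ← hu]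
    exact Subgroup.orderOf_mk u huH
  obtain ⟨K, hK, hle⟩ := Sylow.exists_subgroup_card_pow_prime_le 2 (n := 1) (m := 2)
    (by simpa using h4) (zpowers (⟨u, huH⟩ : H)) h1 (by norm_num)
  refine ⟨K.map H.subtype, ?_, ?_, ?_⟩
  · rintro _ ⟨k, -, rfl⟩
    exact k.2
  · rw [Subgroup.card_map_of_injective H.subtype_injective, hK]; norm_num
  · exact ⟨⟨u, huH⟩, hle (mem_zpowers _), rfl⟩


theorem exists_fixed (hy : Hyp G) (u : G) (hu : orderOf u = 2) : ∃ Q : Sylow 3 G, u • Q = Q := by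
  have h1 : 0 < Nat.card (fixedBy (Sylow 3 G) u) := by
    rcases fix2 hy u hu with h | h <;> omega
  obtain ⟨⟨Q, hQ⟩⟩ := (Nat.card_pos_iff.1 h1).1
  exact ⟨Q, mem_fixedBy.1 hQ⟩

theorem exists_ne_one3 (hy : Hyp G) (P : Sylow 3 G) : ∃ x ∈ (P : Subgroup G), x ≠ 1 := by
  by_contra h
  push Not at h
  have h1 : (P : Subgroup G) = ⊥ := (Subgroup.eq_bot_iff_forall _).2 h
  have h2 := card3 hy P
  rw [h1] at h2
  simp at h2

theorem exists_sqrt_in (hy : Hyp G) (P : Sylow 3 G) (u : G) (hu : orderOf u = 2)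
    (huP : u ∈ normalizer ((P : Subgroup G) : Set G)) :
    ∃ s ∈ normalizer ((P : Subgroup G) : Set G), s ^ 2 = u ∧ orderOf s = 4 := by
  obtain ⟨K, hKN, hK4, huK⟩ := exists_four (normalizer ((P : Subgroup G) : Set G))
    (by rw [norm3 hy P]; norm_num) u huP hu
  have hex : ∃ k ∈ K, k ^ 2 ≠ 1 := by
    by_contra hcon
    push Not at hcon
    have h1 : ∃ k ∈ K, k ∉ zpowers u := by
      by_contra h2
      push Not at h2
      have h3 : K ≤ zpowers u := h2
      have h4 := Subgroup.card_le_of_le h3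
      rw [hK4, Nat.card_zpowers, hu] at h4
      omega
    obtain ⟨k, hk, hku⟩ := h1
    have hk1 : k ≠ 1 := fun h => hku (h ▸ one_mem _)
    have hko : orderOf k = 2 := orderOf_eq_prime (hcon k hk) hk1
    have hu2 : u ^ 2 = 1 := hcon u huK
    have hkuo : orderOf (k * u) = 2 := by
      apply orderOf_eq_prime (hcon _ (mul_mem hk huK))
      intro h
      apply hku
      have : k = u⁻¹ := eq_inv_of_mul_eq_one_left h
      rw [this]; exact inv_mem (mem_zpowers u)
    obtain ⟨x, hx, hx1⟩ := exists_ne_one3 hy P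
    apply not_commute23 hy (k * u) hkuo P x hx hx1
    have e1 := inverts hy u hu P huP x hx
    have e2 := inverts hy k hko P (hKN hk) x⁻¹ (inv_mem hx)
    show k * u * x = x * (k * u)
    have e3 : k * u * x * (k * u)⁻¹ = x := by
      calc k * u * x * (k * u)⁻¹ = k * (u * x * u⁻¹) * k⁻¹ := by group
        _ = x := by rw [e1, e2, inv_inv]
    calc k * u * x = (k * u * x * (k * u)⁻¹) * (k * u) := by group
      _ = x * (k * u) := by rw [e3]
  obtain ⟨k, hk, hk2⟩ := hex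
  have hd : orderOf k ∣ 4 := by
    rw [← hK4]; exact Subgroup.orderOf_dvd_natCard K hk
  have hk4 : orderOf k = 4 := by
    have h1 : orderOf k ≤ 4 := Nat.le_of_dvd (by norm_num) hd
    have h2 : ¬ orderOf k ∣ 2 := fun h => hk2 (orderOf_dvd_iff_pow_eq_one.1 h)
    interval_cases h : orderOf k <;> simp_all (config := {decide := true})
  have hz : zpowers k = K :=
    Subgroup.eq_of_le_of_card_ge ((zpowers_le).2 hk) (by rw [hK4, Nat.card_zpowers, hk4])
  refine ⟨k, hKN hk, ?_, hk4⟩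
  have hu2 : u ^ 2 = 1 := by rw [← hu, pow_orderOf_eq_one]
  exact (eq_sq_of_mem_zpowers k u hk4 (hz ▸ huK) hu2 (by rintro rfl; simp at hu)).symm

theorem exists_sqrt (hy : Hyp G) (u : G) (hu : orderOf u = 2) :
    ∃ s, s ^ 2 = u ∧ orderOf s = 4 := by
  obtain ⟨Q, hQ⟩ := exists_fixed hy u hu
  obtain ⟨s, -, h1, h2⟩ := exists_sqrt_in hy Q u hu (mem_normalizer_of_smul Q u hQ)
  exact ⟨s, h1, h2⟩

theorem exp3 (hy : Hyp G) (P : Sylow 3 G) (x : G) (hx : x ∈ (P : Subgroup G)) : x ^ 3 = 1 := by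
  by_contra hne
  have hd : orderOf x ∣ 9 := by
    rw [← card3 hy P]; exact Subgroup.orderOf_dvd_natCard _ hx
  have h9 : orderOf x = 9 := by
    have h1 : orderOf x ≤ 9 := Nat.le_of_dvd (by norm_num) hd
    have h2 : ¬ orderOf x ∣ 3 := fun h => hne (orderOf_dvd_iff_pow_eq_one.1 h)
    interval_cases h : orderOf x <;> simp_all (config := {decide := true})
  have hz : zpowers x = (P : Subgroup G) :=
    Subgroup.eq_of_le_of_card_ge ((zpowers_le).2 hx) (by rw [card3 hy P, Nat.card_zpowers, h9])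
  obtain ⟨u', hu'⟩ := exists_prime_orderOf_dvd_card' (G := normalizer ((P : Subgroup G) : Set G)) 2
    (by rw [norm3 hy P]; norm_num)
  have hu : orderOf (u' : G) = 2 := by rw [Subgroup.orderOf_coe]; exact hu'
  obtain ⟨s, hs, hs2, -⟩ := exists_sqrt_in hy P u' hu u'.2
  have h1 : s * x * s⁻¹ ∈ zpowers x := by
    rw [hz]; exact (mem_normalizer_iff.1 hs x).1 hx
  obtain ⟨k, hk⟩ := h1
  have hk' : x ^ k = s * x * s⁻¹ := hk
  have h2 := inverts hy u' hu P u'.2 x hx
  have h3 : x ^ (k * k) = x⁻¹ := by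
    rw [← h2, ← hs2, zpow_mul, hk']
    have : (s * x * s⁻¹) ^ k = s * x ^ k * s⁻¹ := by
      rw [← conj_zpow]
    rw [this, hk', pow_two]
    group
  have h4 : x ^ (k * k + 1) = 1 := by
    rw [zpow_add, h3, zpow_one, inv_mul_cancel]
  have h5 : ((orderOf x : ℕ) : ℤ) ∣ k * k + 1 := orderOf_dvd_iff_zpow_eq_one.2 h4
  rw [h9] at h5
  have h6 : (3 : ℤ) ∣ k * k + 1 := Dvd.dvd.trans (by norm_num) h5
  have h7 : (k * k + 1) % 3 = 0 := Int.emod_eq_zero_of_dvd h6
  have h8 : k % 3 = 0 ∨ k % 3 = 1 ∨ k % 3 = 2 := by omega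
  rcases h8 with h | h | h <;> simp [Int.add_emod, Int.mul_emod, h] at h7

theorem exists_sylow3 (y : G) (k : ℕ) (hy3 : orderOf y = 3 ^ k) :
    ∃ P : Sylow 3 G, y ∈ (P : Subgroup G) := by
  obtain ⟨P, hP⟩ := (Cfsg.Agent.Lib.Helper96.isPGroup_zpowers y 3 k hy3).exists_le_sylow
  exact ⟨P, hP (mem_zpowers y)⟩

theorem not_commute23' (hy : Hyp G) (t y : G) (ht : orderOf t = 2) (hy3 : orderOf y = 3) :
    ¬ Commute t y := by
  obtain ⟨P, hP⟩ := exists_sylow3 y 1 (by simpa using hy3)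
  exact not_commute23 hy t ht P y hP (by rintro rfl; simp at hy3)

theorem cent2 (hy : Hyp G) (u : G) (hu : orderOf u = 2) :
    Nat.card (centralizer ({u} : Set G)) ∣ 8 := by
  have h360 : Nat.card (centralizer ({u} : Set G)) ∣ 8 * 45 := by
    have := Subgroup.card_subgroup_dvd_card (centralizer ({u} : Set G))
    rw [hy.card] at this
    exact this
  have h3 : ¬ 3 ∣ Nat.card (centralizer ({u} : Set G)) := by
    intro h
    obtain ⟨y, hy'⟩ := exists_prime_orderOf_dvd_card' (G := centralizer ({u} : Set G)) 3 h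
    have hy3 : orderOf (y : G) = 3 := by rw [Subgroup.orderOf_coe]; exact hy'
    apply not_commute23' hy u y hu hy3
    exact (mem_centralizer_singleton_iff.1 y.2).symm
  have h5 : ¬ 5 ∣ Nat.card (centralizer ({u} : Set G)) := by
    intro h
    obtain ⟨y, hy'⟩ := exists_prime_orderOf_dvd_card' (G := centralizer ({u} : Set G)) 5 h
    have hy5 : orderOf (y : G) = 5 := by rw [Subgroup.orderOf_coe]; exact hy'
    have h1 := cent5 hy y hy5 u (mem_centralizer_singleton_iff.1 y.2).symm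
    have h2 := Subgroup.orderOf_dvd_natCard _ h1
    rw [Nat.card_zpowers, hu, hy5] at h2
    omega
  have hc : Nat.Coprime (Nat.card (centralizer ({u} : Set G))) 45 := by
    have e : (45 : ℕ) = 3 ^ 2 * 5 := by norm_num
    rw [e]
    apply Nat.Coprime.mul_right
    · apply Nat.Coprime.pow_right
      exact (Nat.coprime_comm.1 ((Nat.Prime.coprime_iff_not_dvd Nat.prime_three).2 h3))
    · exact (Nat.coprime_comm.1 ((Nat.Prime.coprime_iff_not_dvd Nat.prime_five).2 h5))
  exact hc.dvd_of_dvd_mul_right h360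

theorem no8 (hy : Hyp G) (g : G) : orderOf g ≠ 8 := by
  intro h8
  obtain ⟨S, hS⟩ := (Cfsg.Agent.Lib.Helper96.isPGroup_zpowers g 2 3 (by rw [h8]; norm_num)).exists_le_sylow
  have hSc : Nat.card S = 8 := by
    have := Cfsg.Agent.Lib.Helper75.card_sylow_eq_pow S 3 45 (by rw [hy.card]; norm_num) (by norm_num)
    simpa using this
  have hz : zpowers g = (S : Subgroup G) :=
    Subgroup.eq_of_le_of_card_ge hS (by rw [hSc, Nat.card_zpowers, h8])
  have hcyc : IsCyclic (S : Subgroup G) := by rw [← hz]; infer_instance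
  have h1 := IsCyclic.normalizer_le_centralizer (G := G) (p := 2) (P := S)
    (by rw [hy.card]; norm_num) hcyc
  exact Cfsg.Agent.Lib.Helper11.not_normalizer_le_centralizer (not_cyclic hy.card) 2
    (by rw [hy.card]; norm_num) S h1

end Cfsg.Agent.Lib.Helper60.O360
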