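import Mathlib
import Cfsg.Agent.Lib.Helper60.O360b

/-! Simple groups of order 360, part c: element orders and counting lemmas. -/

set_option autoImplicit false

namespace Cfsg.Agent.Lib.Helper60.O360

open Subgroup MulAction

section
variable {G : Type*} [Group G] [Finite G] [IsSimpleGroup G]

theorem orders (hy : Hyp G) (g : G) : g ^ 2 = 1 ∨ g ^ 3 = 1 ∨ orderOf g = 4 ∨ g ^ 5 = 1 := by
  have hn : orderOf g ∣ 360 := by rw [← hy.card]; exact orderOf_dvd_natCard g
  have hpos : orderOf g ≠ 0 := (orderOf_pos g).ne'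
  by_cases h5 : 5 ∣ orderOf g
  · right; right; right
    have hc : orderOf (g ^ (orderOf g / 5)) = 5 := orderOf_pow_orderOf_div hpos h5
    have h1 := cent5 hy _ hc g ((Commute.refl g).pow_right _)
    have h2 := Subgroup.orderOf_dvd_natCard _ h1
    rw [Nat.card_zpowers, hc] at h2
    exact orderOf_dvd_iff_pow_eq_one.1 h2
  have c5 : Nat.Coprime (orderOf g) 5 :=
    Nat.coprime_comm.1 ((Nat.Prime.coprime_iff_not_dvd Nat.prime_five).2 h5)
  by_cases h3 : 3 ∣ orderOf g
  · right; left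
    have hc : orderOf (g ^ (orderOf g / 3)) = 3 := orderOf_pow_orderOf_div hpos h3
    have h2 : ¬ 2 ∣ orderOf g := by
      intro h2
      have ht : orderOf (g ^ (orderOf g / 2)) = 2 := orderOf_pow_orderOf_div hpos h2
      exact not_commute23' hy _ _ ht hc ((Commute.refl g).pow_pow _ _)
    have c2 : Nat.Coprime (orderOf g) 2 :=
      Nat.coprime_comm.1 ((Nat.Prime.coprime_iff_not_dvd Nat.prime_two).2 h2)
    have h9 : orderOf g ∣ 3 ^ 2 := by
      have c40 : Nat.Coprime (orderOf g) (2 ^ 3 * 5) := (c2.pow_right 3).mul_right c5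
      apply c40.dvd_of_dvd_mul_right
      norm_num
      exact hn
    obtain ⟨j, -, hj⟩ := (Nat.dvd_prime_pow Nat.prime_three).1 h9
    obtain ⟨P, hP⟩ := exists_sylow3 g j hj
    exact exp3 hy P g hP
  · have c3 : Nat.Coprime (orderOf g) 3 :=
      Nat.coprime_comm.1 ((Nat.Prime.coprime_iff_not_dvd Nat.prime_three).2 h3)
    have h8 : orderOf g ∣ 8 := by
      have c45 : Nat.Coprime (orderOf g) (3 ^ 2 * 5) := (c3.pow_right 2).mul_right c5
      apply c45.dvd_of_dvd_mul_right
      norm_num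
      exact hn
    have h8' := no8 hy g
    have hle : orderOf g ≤ 8 := Nat.le_of_dvd (by norm_num) h8
    by_cases h2 : orderOf g ∣ 2
    · left; exact orderOf_dvd_iff_pow_eq_one.1 h2
    · right; right; left
      interval_cases h : orderOf g <;> simp_all (config := {decide := true})

theorem cardCC (hy : Hyp G) (u u' : G) (hu : orderOf u = 2) (hu' : orderOf u' = 2) (hne : u ≠ u')
    (hc : u * u' = u' * u) :
    Nat.card (centralizer ({u} : Set G) ⊓ centralizer ({u'} : Set G) : Subgroup G) ≤ 4 := by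
  set X : Subgroup G := centralizer ({u} : Set G) ⊓ centralizer ({u'} : Set G) with hX
  by_contra hlt
  push Not at hlt
  have key : ∀ v : G, orderOf v = 2 → X ≤ centralizer ({v} : Set G) →
      X = centralizer ({v} : Set G) ∧ Nat.card X = 8 := by
    intro v hv hle
    have h1 := Subgroup.card_dvd_of_le hle
    have h2 := cent2 hy v hv
    have h3 : Nat.card (centralizer ({v} : Set G)) ≤ 8 := Nat.le_of_dvd (by norm_num) h2
    obtain ⟨k, hk⟩ := h1
    have hk1 : k = 1 := by
      rcases k with _ | _ | k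
      · have hp : 0 < Nat.card (centralizer ({v} : Set G)) := Nat.card_pos
        rw [hk] at hp; simp at hp
      · rfl
      · exfalso; nlinarith
    subst hk1
    rw [mul_one] at hk
    refine ⟨Subgroup.eq_of_le_of_card_ge hle hk.le, ?_⟩
    rw [← hk]
    have h4 : Nat.card X ∣ 8 := hk ▸ h2
    rw [hk] at h3 ⊢
    interval_cases h : Nat.card X <;> simp_all (config := {decide := true})
  obtain ⟨hXu, hX8⟩ := key u hu inf_le_left
  obtain ⟨hXu', -⟩ := key u' hu' inf_le_right
  obtain ⟨s, hs2, hs4⟩ := exists_sqrt hy u hu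
  obtain ⟨s', hs2', hs4'⟩ := exists_sqrt hy u' hu'
  have hsX : s ∈ X := by
    rw [hXu, mem_centralizer_singleton_iff, ← hs2]
    group
  have hs'X : s' ∈ X := by
    rw [hXu', mem_centralizer_singleton_iff, ← hs2']
    group
  have hu'X : u' ∈ X := by
    rw [hXu', mem_centralizer_singleton_iff]
  have hHX : zpowers s ≤ X := (zpowers_le).2 hsX
  have hu'2 : u' ^ 2 = 1 := by rw [← hu', pow_orderOf_eq_one]
  have hu'H : u' ∉ zpowers s := by
    intro h
    apply hne
    rw [← hs2]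
    exact (eq_sq_of_mem_zpowers s u' hs4 h hu'2 (by rintro rfl; simp at hu')).symm
  have hri : (zpowers s).relIndex X = 2 := by
    have := relIndex_mul_card' hHX
    rw [Nat.card_zpowers, hs4, hX8] at this
    omega
  obtain ⟨a₀, ha₀, hxor⟩ := Subgroup.relIndex_eq_two_iff.1 hri
  have h1 : u' * a₀ ∈ zpowers s := by
    rcases hxor u' hu'X with ⟨h, -⟩ | ⟨h, -⟩
    · exact h
    · exact absurd h hu'H
  rcases hxor s' hs'X with ⟨h, -⟩ | ⟨h, -⟩
  · have h2 : s' * u' ∈ zpowers s := by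
      have h3 : s' * a₀ * (u' * a₀)⁻¹ ∈ zpowers s := mul_mem h (inv_mem h1)
      have h4 : u'⁻¹ = u' := by
        rw [inv_eq_iff_mul_eq_one, ← pow_two]; exact hu'2
      have h5 : s' * a₀ * (u' * a₀)⁻¹ = s' * u' := by
        calc s' * a₀ * (u' * a₀)⁻¹ = s' * u'⁻¹ := by group
          _ = s' * u' := by rw [h4]
      rwa [h5] at h3
    apply hu'H
    have h3 : (s' * u') ^ 2 = u' := by
      rw [← hs2']
      have h4 : s' ^ 4 = 1 := by rw [← hs4', pow_orderOf_eq_one]
      calc (s' * s' ^ 2) ^ 2 = s' ^ 4 * s' ^ 2 := by group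
        _ = s' ^ 2 := by rw [h4, one_mul]
    rw [← h3]
    exact pow_mem h2 2
  · apply hu'H
    rw [← hs2']
    exact pow_mem h 2

end


section words
variable {G : Type*} [Group G]

theorem invo (a : G) (ha : orderOf a = 2) : a * a = 1 ∧ a⁻¹ = a ∧ a ≠ 1 := by
  have h1 : a * a = 1 := by rw [← pow_two, ← ha, pow_orderOf_eq_one]
  exact ⟨h1, inv_eq_of_mul_eq_one_left h1, by rintro rfl; simp at ha⟩

theorem orderOf_two_of (a : G) (h1 : a * a = 1) (h2 : a ≠ 1) : orderOf a = 2 :=
  orderOf_eq_prime (by rw [pow_two]; exact h1) h2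

theorem comm_of_invo (x y : G) (hx : x * x = 1) (hy : y * y = 1) (hxy : (x * y) * (x * y) = 1) :
    x * y = y * x := by
  have h1 : x * y = (x * y)⁻¹ := eq_inv_of_mul_eq_one_left hxy
  rw [h1, mul_inv_rev, inv_eq_of_mul_eq_one_left hx, inv_eq_of_mul_eq_one_left hy]

theorem id3 (a b : G) :
    a * (b * a * b⁻¹) * (b * (b * a * b⁻¹) * b⁻¹) = (a * b) ^ 3 * (b ^ 3)⁻¹ := by
  simp [pow_succ, mul_assoc]

theorem id4 (a b : G) (ha : a * a = 1) (hb : b ^ 3 = 1) :
    (a * b)⁻¹ * ((a * b) ^ 2 * (a * (a * b) ^ 2 * a⁻¹)) * (a * b) = (a * b⁻¹) ^ 2 := by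
  have hbb : b * b = b⁻¹ := by
    apply eq_inv_of_mul_eq_one_left
    rw [← hb]; simp [pow_succ]
  calc (a * b)⁻¹ * ((a * b) ^ 2 * (a * (a * b) ^ 2 * a⁻¹)) * (a * b)
      = a * (b * (a * a) * b) * a * (b * b) := by simp [pow_succ, mul_assoc]
    _ = a * b⁻¹ * a * b⁻¹ := by rw [ha, mul_one, hbb]
    _ = (a * b⁻¹) ^ 2 := by simp [pow_succ, mul_assoc]

end words

end Cfsg.Agent.Lib.Helper60.O360
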