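import Mathlib
import Cfsg.Agent.Lib.Helper60.O360c

/-! Simple groups of order 360, part d: counting pairs (involution, element of order 3). -/

set_option autoImplicit false

namespace Cfsg.Agent.Lib.Helper60.O360

open Subgroup MulAction
open scoped Classical

variable {G : Type*} [Group G] [Fintype G]

theorem card_filter_mem (H : Subgroup G) :
    (Finset.univ.filter (fun g => g ∈ H)).card = Nat.card H :=
  (Nat.subtype_card _ (by simp)).symm

theorem card_le_of_coset (X : Subgroup G) (n : ℕ) (hX : Nat.card X ≤ n) (F : Finset G)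
    (h : ∀ b ∈ F, ∀ b' ∈ F, b'⁻¹ * b ∈ X) : F.card ≤ n := by
  rcases F.eq_empty_or_nonempty with rfl | ⟨b₀, hb₀⟩
  · simp
  · refine le_trans ?_ hX
    rw [← card_filter_mem X]
    apply Finset.card_le_card_of_injOn (fun b => b₀⁻¹ * b)
    · intro b hb
      simp only [Finset.coe_filter, Finset.mem_univ, true_and, Set.mem_ofPred_eq]
      exact h b hb b₀ hb₀
    · intro b _ b' _ hbb
      exact mul_left_cancel hbb

/-- involutions commuting with `u`, other than `u` -/
noncomputable def J (u : G) : Finset G :=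
  Finset.univ.filter (fun v => orderOf v = 2 ∧ v * u = u * v ∧ v ≠ u)

theorem mem_J {u v : G} : v ∈ J u ↔ orderOf v = 2 ∧ v * u = u * v ∧ v ≠ u := by
  simp [J]

/-- elements of order 4 commuting with `w` -/
noncomputable def E (w : G) : Finset G :=
  Finset.univ.filter (fun c => c * w = w * c ∧ orderOf c = 4)

/-- elements of order 3 -/
noncomputable def B : Finset G := Finset.univ.filter (fun b => orderOf b = 3)

variable [IsSimpleGroup G]

theorem card_C (hy : Hyp G) (u : G) (hu : orderOf u = 2) :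
    (Finset.univ.filter (fun g => g ∈ centralizer ({u} : Set G))).card ≤ 8 := by
  rw [card_filter_mem]
  exact Nat.le_of_dvd (by norm_num) (cent2 hy u hu)

theorem card_J (hy : Hyp G) (u : G) (hu : orderOf u = 2) : (J u).card ≤ 4 := by
  obtain ⟨s, hs2, hs4⟩ := exists_sqrt hy u hu
  set C := Finset.univ.filter (fun g => g ∈ centralizer ({u} : Set G)) with hC
  set Z := Finset.univ.filter (fun g => g ∈ zpowers s) with hZ
  have hsC : zpowers s ≤ centralizer ({u} : Set G) := by
    rw [zpowers_le, mem_centralizer_singleton_iff, ← hs2]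
    simp [pow_succ, mul_assoc]
  have hZC : Z ⊆ C := by
    intro g hg
    simp only [hZ, hC, Finset.mem_filter, Finset.mem_univ, true_and] at hg ⊢
    exact hsC hg
  have hJ : J u ⊆ C \ Z := by
    intro v hv
    obtain ⟨h1, h2, h3⟩ := mem_J.1 hv
    simp only [hZ, hC, Finset.mem_sdiff, Finset.mem_filter, Finset.mem_univ, true_and]
    refine ⟨mem_centralizer_singleton_iff.2 h2, fun h => h3 ?_⟩
    rw [← hs2]
    exact eq_sq_of_mem_zpowers s v hs4 h (by rw [← h1, pow_orderOf_eq_one]) (invo v h1).2.2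
  have hZc : Z.card = 4 := by rw [hZ, card_filter_mem, Nat.card_zpowers, hs4]
  have hCc : C.card ≤ 8 := card_C hy u hu
  calc (J u).card ≤ (C \ Z).card := Finset.card_le_card hJ
    _ = C.card - Z.card := Finset.card_sdiff_of_subset hZC
    _ ≤ 4 := by omega

theorem card_E (hy : Hyp G) (w v : G) (hw : orderOf w = 2) (hv : orderOf v = 2) (hne : w ≠ v)
    (hc : w * v = v * w) : (E w).card ≤ 4 := by
  obtain ⟨hw1, hw2, hw3⟩ := invo w hw
  obtain ⟨hv1, hv2, hv3⟩ := invo v hv
  set C := Finset.univ.filter (fun g => g ∈ centralizer ({w} : Set G)) with hC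
  set T : Finset G := {1, w, v, w * v} with hT
  have hTc : T.card = 4 := by
    rw [hT]
    have e1 : (1 : G) ∉ ({w, v, w * v} : Finset G) := by
      simp only [Finset.mem_insert, Finset.mem_singleton, not_or]
      refine ⟨fun h => hw3 h.symm, fun h => hv3 h.symm, fun h => hne ?_⟩
      rw [← hv2]; exact eq_inv_of_mul_eq_one_left h.symm
    have e2 : w ∉ ({v, w * v} : Finset G) := by
      simp only [Finset.mem_insert, Finset.mem_singleton, not_or]
      exact ⟨hne, fun h => hv3 (by simpa using h.symm)⟩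
    have e3 : v ∉ ({w * v} : Finset G) := by
      simp only [Finset.mem_singleton]
      exact fun h => hw3 (by simpa using h.symm)
    rw [Finset.card_insert_of_notMem e1, Finset.card_insert_of_notMem e2,
      Finset.card_insert_of_notMem e3, Finset.card_singleton]
  have hTC : T ⊆ C := by
    intro g hg
    simp only [hT, Finset.mem_insert, Finset.mem_singleton] at hg
    simp only [hC, Finset.mem_filter, Finset.mem_univ, true_and, mem_centralizer_singleton_iff]
    rcases hg with rfl | rfl | rfl | rfl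
    · simp
    · rfl
    · exact hc.symm
    · rw [mul_assoc, ← hc]
  have hE : E w ⊆ C \ T := by
    intro c hcE
    simp only [E, Finset.mem_filter, Finset.mem_univ, true_and] at hcE
    obtain ⟨h1, h2⟩ := hcE
    simp only [hC, hT, Finset.mem_sdiff, Finset.mem_filter, Finset.mem_univ, true_and,
      Finset.mem_insert, Finset.mem_singleton, mem_centralizer_singleton_iff, not_or]
    refine ⟨h1, ?_, ?_, ?_, ?_⟩
    · rintro rfl; simp at h2
    · rintro rfl; omega
    · rintro rfl; omega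
    · rintro rfl
      have : (w * v) ^ 2 = 1 := by
        rw [pow_two]
        calc w * v * (w * v) = w * (v * w) * v := by simp [mul_assoc]
          _ = (w * w) * (v * v) := by rw [← hc]; simp [mul_assoc]
          _ = 1 := by rw [hw1, hv1, one_mul]
      have := orderOf_dvd_of_pow_eq_one this
      rw [h2] at this
      omega
  have hCc : C.card ≤ 8 := card_C hy w hw
  calc (E w).card ≤ (C \ T).card := Finset.card_le_card hE
    _ = C.card - T.card := Finset.card_sdiff_of_subset hTC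
    _ ≤ 4 := by omega

theorem card_B (hy : Hyp G) : 80 ≤ (B : Finset G).card := by
  have : Fintype (Sylow 3 G) := Fintype.ofFinite _
  let t : Sylow 3 G → Finset G := fun Q => Finset.univ.filter (fun x => x ∈ (Q : Subgroup G) ∧ x ≠ 1)
  have ht : ∀ Q, (t Q).card = 8 := by
    intro Q
    have h1 : t Q = (Finset.univ.filter (fun x => x ∈ (Q : Subgroup G))).erase 1 := by
      ext x; simp [t, and_comm]
    rw [h1, Finset.card_erase_of_mem (by simp [one_mem]), card_filter_mem, card3 hy Q]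
  have hsub : Finset.univ.biUnion t ⊆ (B : Finset G) := by
    intro x hx
    simp only [Finset.mem_biUnion, Finset.mem_univ, true_and, t, Finset.mem_filter] at hx
    obtain ⟨Q, hxQ, hx1⟩ := hx
    simp only [B, Finset.mem_filter, Finset.mem_univ, true_and]
    exact orderOf_eq_prime (exp3 hy Q x hxQ) hx1
  have hdis : ∀ Q ∈ (Finset.univ : Finset (Sylow 3 G)), ∀ Q' ∈ (Finset.univ : Finset (Sylow 3 G)),
      Q ≠ Q' → Disjoint (t Q) (t Q') := by
    intro Q _ Q' _ hne
    rw [Finset.disjoint_left]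
    intro x hx hx'
    simp only [t, Finset.mem_filter, Finset.mem_univ, true_and] at hx hx'
    exact hne (ti' hy Q Q' x hx.1 hx'.1 hx.2)
  calc 80 = (Finset.univ.biUnion t).card := by
        rw [Finset.card_biUnion hdis, Finset.sum_congr rfl (fun Q _ => ht Q), Finset.sum_const,
          Finset.card_univ, ← Nat.card_eq_fintype_card, num3 hy]
        rfl
    _ ≤ _ := Finset.card_le_card hsub


omit [Fintype G] [IsSimpleGroup G] in
theorem conj_mem_smul (Q : Sylow 3 G) (a x : G) (hx : x ∈ (Q : Subgroup G)) :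
    a * x * a⁻¹ ∈ ((a • Q : Sylow 3 G) : Subgroup G) := by
  have := Subgroup.smul_mem_pointwise_smul x (MulAut.conj a) (Q : Subgroup G) hx
  rw [Sylow.coe_subgroup_smul]
  simpa [MulAut.smul_def, MulAut.conj_apply] using this

theorem card_B2 (hy : Hyp G) (a : G) (ha : orderOf a = 2) :
    ((B : Finset G).filter (fun b => (a * b) ^ 2 = 1)).card ≤ 18 := by
  obtain ⟨ha1, ha2, ha3⟩ := invo a ha
  obtain ⟨P, hP⟩ := exists_fixed hy a ha
  obtain ⟨Q₀, hQ₀⟩ : ∃ Q₀ : Sylow 3 G, ∀ Q : Sylow 3 G, a • Q = Q → Q = P ∨ Q = Q₀ := by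
    by_cases h : ∃ Q₀ : Sylow 3 G, Q₀ ≠ P ∧ a • Q₀ = Q₀
    · obtain ⟨Q₀, h0, h1⟩ := h
      refine ⟨Q₀, fun Q hQ => ?_⟩
      by_cases hQP : Q = P
      · left; exact hQP
      · right; exact (fix2_unique hy a ha P Q₀ Q hP h1 hQ h0 hQP).symm
    · push Not at h
      refine ⟨P, fun Q hQ => ?_⟩
      by_contra hc
      push Not at hc
      exact h Q hc.1 hQ
  have hsub : (B : Finset G).filter (fun b => (a * b) ^ 2 = 1) ⊆
      Finset.univ.filter (fun x => x ∈ (P : Subgroup G)) ∪
        Finset.univ.filter (fun x => x ∈ (Q₀ : Subgroup G)) := by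
    intro b hb
    simp only [B, Finset.mem_filter, Finset.mem_univ, true_and] at hb
    obtain ⟨hb3, hab⟩ := hb
    obtain ⟨Q, hQ⟩ := exists_sylow3 b 1 (by simpa using hb3)
    have h1 : a * b * a⁻¹ = b⁻¹ := by
      rw [ha2]
      apply eq_inv_of_mul_eq_one_left
      rw [← hab]; simp [pow_succ, mul_assoc]
    have h2 : b⁻¹ ∈ ((a • Q : Sylow 3 G) : Subgroup G) := h1 ▸ conj_mem_smul Q a b hQ
    have h3 : a • Q = Q := ti' hy _ _ b⁻¹ h2 (inv_mem hQ) (by
      intro h; rw [inv_eq_one] at h; rw [h] at hb3; simp at hb3)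
    simp only [Finset.mem_union, Finset.mem_filter, Finset.mem_univ, true_and]
    rcases hQ₀ Q h3 with rfl | rfl
    · left; exact hQ
    · right; exact hQ
  calc _ ≤ _ := Finset.card_le_card hsub
    _ ≤ _ := Finset.card_union_le _ _
    _ = 18 := by rw [card_filter_mem, card_filter_mem, card3 hy, card3 hy]

omit [Fintype G] [IsSimpleGroup G] in
theorem B3_facts (a b : G) (ha : orderOf a = 2) (hb : b ^ 3 = 1) (h : (a * b) ^ 3 = 1) :
    b * (b * a * b⁻¹) * b⁻¹ = (a * (b * a * b⁻¹))⁻¹ ∧ (b * a * b⁻¹) * a = a * (b * a * b⁻¹) := by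
  obtain ⟨ha1, ha2, ha3⟩ := invo a ha
  have h1 := id3 a b
  rw [h, hb, inv_one, mul_one] at h1
  have h2 : b * (b * a * b⁻¹) * b⁻¹ = (a * (b * a * b⁻¹))⁻¹ := eq_inv_of_mul_eq_one_right h1
  refine ⟨h2, ?_⟩
  have h3 : (b * a * b⁻¹) * (b * a * b⁻¹) = 1 := by
    calc (b * a * b⁻¹) * (b * a * b⁻¹) = b * (a * a) * b⁻¹ := by simp [mul_assoc]
      _ = 1 := by rw [ha1]; simp
  have h4 : (b * (b * a * b⁻¹) * b⁻¹) * (b * (b * a * b⁻¹) * b⁻¹) = 1 := by
    calc (b * (b * a * b⁻¹) * b⁻¹) * (b * (b * a * b⁻¹) * b⁻¹)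
        = b * ((b * a * b⁻¹) * (b * a * b⁻¹)) * b⁻¹ := by simp [mul_assoc]
      _ = 1 := by rw [h3]; simp
  rw [h2] at h4
  have h5 : (a * (b * a * b⁻¹)) * (a * (b * a * b⁻¹)) = 1 := by
    have := congrArg (·⁻¹) h4
    simpa [mul_assoc] using this
  exact (comm_of_invo a _ ha1 h3 h5).symm

theorem card_B3 (hy : Hyp G) (a : G) (ha : orderOf a = 2) :
    ((B : Finset G).filter (fun b => (a * b) ^ 3 = 1)).card ≤ 16 := by
  obtain ⟨ha1, ha2, ha3⟩ := invo a ha
  have hB : ∀ b ∈ (B : Finset G).filter (fun b => (a * b) ^ 3 = 1),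
      orderOf b = 3 ∧ b ^ 3 = 1 ∧ (a * b) ^ 3 = 1 := by
    intro b hb
    simp only [B, Finset.mem_filter, Finset.mem_univ, true_and] at hb
    exact ⟨hb.1, by rw [← hb.1, pow_orderOf_eq_one], hb.2⟩
  have hmaps : ∀ b ∈ (B : Finset G).filter (fun b => (a * b) ^ 3 = 1), b * a * b⁻¹ ∈ J a := by
    intro b hb
    obtain ⟨hb3, hb3', hab⟩ := hB b hb
    obtain ⟨-, f2⟩ := B3_facts a b ha hb3' hab
    rw [mem_J]
    refine ⟨?_, f2, ?_⟩
    · apply orderOf_two_of
      · calc (b * a * b⁻¹) * (b * a * b⁻¹) = b * (a * a) * b⁻¹ := by simp [mul_assoc]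
          _ = 1 := by rw [ha1]; simp
      · intro h
        apply ha3
        have : a = b⁻¹ * (b * a * b⁻¹) * b := by simp [mul_assoc]
        rw [this, h]; simp
    · intro h
      apply not_commute23' hy a b ha hb3
      show a * b = b * a
      calc a * b = (b * a * b⁻¹) * b := by rw [h]
        _ = b * a := by simp [mul_assoc]
  have hfib : ∀ a' ∈ J a, (((B : Finset G).filter (fun b => (a * b) ^ 3 = 1)).filter
      (fun b => b * a * b⁻¹ = a')).card ≤ 4 := by
    intro a' ha'
    obtain ⟨h1, h2, h3⟩ := mem_J.1 ha'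
    apply card_le_of_coset _ 4 (cardCC hy a a' ha h1 h3.symm h2.symm)
    intro b hb b' hb'
    rw [Finset.mem_filter] at hb hb'
    obtain ⟨hbB, hba⟩ := hb
    obtain ⟨hbB', hba'⟩ := hb'
    obtain ⟨-, hb3', hab⟩ := hB b hbB
    obtain ⟨-, hb3'', hab'⟩ := hB b' hbB'
    obtain ⟨f1, -⟩ := B3_facts a b ha hb3' hab
    obtain ⟨f1', -⟩ := B3_facts a b' ha hb3'' hab'
    rw [hba] at f1
    rw [hba'] at f1'
    rw [Subgroup.mem_inf, mem_centralizer_singleton_iff, mem_centralizer_singleton_iff]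
    constructor
    · have e : b * a = b' * a * b'⁻¹ * b := by rw [hba', ← hba]; simp [mul_assoc]
      calc b'⁻¹ * b * a = b'⁻¹ * (b * a) := by rw [mul_assoc]
        _ = a * (b'⁻¹ * b) := by rw [e]; simp [mul_assoc]
    · have e : b * a' = b' * a' * b'⁻¹ * b := by rw [f1', ← f1]; simp [mul_assoc]
      calc b'⁻¹ * b * a' = b'⁻¹ * (b * a') := by rw [mul_assoc]
        _ = a' * (b'⁻¹ * b) := by rw [e]; simp [mul_assoc]
  have h1 := Finset.card_le_mul_card_image_of_maps_to hmaps 4 hfib
  have h2 := card_J hy a ha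
  omega


omit [Fintype G] [IsSimpleGroup G] in
theorem B4_facts (a b w : G) (ha : orderOf a = 2) (hb : b ^ 3 = 1) (h4 : orderOf (a * b) = 4)
    (hw : (a * b) ^ 2 = w) :
    orderOf w = 2 ∧ orderOf (w * (a * w * a⁻¹)) = 2 ∧
      w * (w * (a * w * a⁻¹)) = (w * (a * w * a⁻¹)) * w ∧
      (w * (a * w * a⁻¹)) * a = a * (w * (a * w * a⁻¹)) ∧
      (w * (a * w * a⁻¹)) ≠ a ∧ w ≠ w * (a * w * a⁻¹) ∧ w ≠ a ∧ w ≠ a * (w * (a * w * a⁻¹)) := by
  obtain ⟨ha1, ha2, ha3⟩ := invo a ha
  have hc4 : (a * b) ^ 4 = 1 := by rw [← h4, pow_orderOf_eq_one]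
  have hww : w * w = 1 := by rw [← hw, ← pow_add]; exact hc4
  have hw1 : w ≠ 1 := by
    intro h
    rw [h] at hw
    have := orderOf_dvd_of_pow_eq_one hw
    rw [h4] at this
    omega
  set w' := a * w * a⁻¹ with hw'
  have hw'w' : w' * w' = 1 := by
    calc w' * w' = a * (w * w) * a⁻¹ := by simp [hw', mul_assoc]
      _ = 1 := by rw [hww]; simp
  have hw'1 : w' ≠ 1 := by
    intro h
    apply hw1
    have : w = a⁻¹ * w' * a := by simp [hw', mul_assoc]
    rw [this, h]; simp
  have e1 : a * b⁻¹ = (a * (a * b) * a⁻¹)⁻¹ := by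
    have : (a * (a * b) * a⁻¹)⁻¹ = a * b⁻¹ * (a * a)⁻¹ := by simp [mul_assoc]
    rw [this, ha1]; simp
  have e2 : (a * b⁻¹) ^ 2 = w'⁻¹ := by
    rw [e1, inv_pow, conj_pow, hw]
  have e3 := id4 a b ha1 hb
  rw [hw, ← hw', e2] at e3
  have e4 : w * w' = (a * b) * w'⁻¹ * (a * b)⁻¹ := by
    rw [← e3]; simp [mul_assoc]
  have hvv : (w * w') * (w * w') = 1 := by
    rw [e4]
    calc (a * b) * w'⁻¹ * (a * b)⁻¹ * ((a * b) * w'⁻¹ * (a * b)⁻¹)
        = (a * b) * (w' * w')⁻¹ * (a * b)⁻¹ := by simp [mul_assoc]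
      _ = 1 := by rw [hw'w']; simp
  have hv1 : w * w' ≠ 1 := by
    intro h
    rw [h] at e3
    apply hw'1
    have : w'⁻¹ = 1 := by rw [← e3]; simp
    simpa using this
  have hcomm : w * w' = w' * w := comm_of_invo w w' hww hw'w' hvv
  have haw' : a * w' * a⁻¹ = w := by
    calc a * w' * a⁻¹ = (a * a) * w * (a * a)⁻¹ := by simp [hw', mul_assoc]
      _ = w := by rw [ha1]; simp
  have hva : (w * w') * a = a * (w * w') := by
    have : a * (w * w') * a⁻¹ = w * w' := by
      calc a * (w * w') * a⁻¹ = (a * w * a⁻¹) * (a * w' * a⁻¹) := by simp [mul_assoc]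
        _ = w' * w := by rw [haw']
        _ = w * w' := hcomm.symm
    calc (w * w') * a = (a * (w * w') * a⁻¹) * a := by rw [this]
      _ = a * (w * w') := by simp [mul_assoc]
  have hwv : w * (w * w') = (w * w') * w := by
    rw [mul_assoc w w' w, ← hcomm]
  have hno : a * w ≠ w * a := by
    intro h
    apply hv1
    have : w' = w := by rw [hw', h]; simp [mul_assoc]
    rw [this, hww]
  refine ⟨orderOf_two_of w hww hw1, orderOf_two_of _ hvv hv1, hwv, hva, ?_, ?_, ?_, ?_⟩
  · intro h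
    rw [h] at hwv
    exact hno hwv.symm
  · intro h
    apply hw'1
    simpa using h.symm
  · intro h
    apply hno
    rw [h]
  · intro h
    apply hno
    have h' : a * (w * w') = w := h.symm
    calc a * w = a * (a * (w * w')) := congrArg (a * ·) h
      _ = (a * (w * w')) * a := by rw [mul_assoc a (w * w') a, hva]
      _ = w * a := by rw [h']

/-- candidates for `(a b)^2` -/
noncomputable def W (a : G) : Finset G :=
  Finset.univ.filter (fun w => (w * (a * w * a⁻¹)) ∈ J a ∧ w ∈ J (w * (a * w * a⁻¹)) ∧ w ≠ a ∧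
    w ≠ a * (w * (a * w * a⁻¹)))

theorem card_W (hy : Hyp G) (a : G) (ha : orderOf a = 2) : (W a).card ≤ 8 := by
  obtain ⟨ha1, ha2, ha3⟩ := invo a ha
  have hmaps : ∀ w ∈ W a, w * (a * w * a⁻¹) ∈ J a := by
    intro w hw
    simp only [W, Finset.mem_filter, Finset.mem_univ, true_and] at hw
    exact hw.1
  have hfib : ∀ v ∈ J a, ((W a).filter (fun w => w * (a * w * a⁻¹) = v)).card ≤ 2 := by
    intro v hv
    obtain ⟨h1, h2, h3⟩ := mem_J.1 hv
    obtain ⟨hv1, hv2, hv3⟩ := invo v h1
    have hsub : (W a).filter (fun w => w * (a * w * a⁻¹) = v) ⊆ ((J v).erase a).erase (a * v) := by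
      intro w hw
      simp only [W, Finset.mem_filter, Finset.mem_univ, true_and] at hw
      obtain ⟨⟨-, g2, g3, g4⟩, g5⟩ := hw
      rw [g5] at g2 g4
      simp only [Finset.mem_erase]
      exact ⟨g4, g3, g2⟩
    have haJ : a ∈ J v := mem_J.2 ⟨ha, h2.symm, h3.symm⟩
    have havJ : a * v ∈ (J v).erase a := by
      rw [Finset.mem_erase]
      refine ⟨fun h => hv3 (by simpa using h), mem_J.2 ⟨?_, ?_, ?_⟩⟩
      · apply orderOf_two_of
        · calc a * v * (a * v) = a * (v * a) * v := by simp [mul_assoc]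
            _ = (a * a) * (v * v) := by rw [h2]; simp [mul_assoc]
            _ = 1 := by rw [ha1, hv1, one_mul]
        · intro h
          apply h3
          rw [← hv2]
          exact (eq_inv_of_mul_eq_one_left h).symm ▸ rfl
      · rw [mul_assoc, ← mul_assoc v a v, h2, mul_assoc]
      · intro h
        exact ha3 (by simpa using h)
    have hc := Finset.card_le_card hsub
    rw [Finset.card_erase_of_mem havJ, Finset.card_erase_of_mem haJ] at hc
    have := card_J hy v h1
    omega
  have h1 := Finset.card_le_mul_card_image_of_maps_to hmaps 2 hfib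
  have h2 := card_J hy a ha
  omega

theorem card_B4 (hy : Hyp G) (a : G) (ha : orderOf a = 2) :
    ((B : Finset G).filter (fun b => orderOf (a * b) = 4)).card ≤ 32 := by
  have hB : ∀ b ∈ (B : Finset G).filter (fun b => orderOf (a * b) = 4),
      b ^ 3 = 1 ∧ orderOf (a * b) = 4 := by
    intro b hb
    simp only [B, Finset.mem_filter, Finset.mem_univ, true_and] at hb
    exact ⟨by rw [← hb.1, pow_orderOf_eq_one], hb.2⟩
  have hmaps : ∀ b ∈ (B : Finset G).filter (fun b => orderOf (a * b) = 4), (a * b) ^ 2 ∈ W a := by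
    intro b hb
    obtain ⟨hb3, hab⟩ := hB b hb
    obtain ⟨f1, f2, f3, f4, f5, f6, f7, f8⟩ := B4_facts a b _ ha hb3 hab rfl
    simp only [W, Finset.mem_filter, Finset.mem_univ, true_and]
    exact ⟨mem_J.2 ⟨f2, f4, f5⟩, mem_J.2 ⟨f1, f3, f6⟩, f7, f8⟩
  have hfib : ∀ w ∈ W a, (((B : Finset G).filter (fun b => orderOf (a * b) = 4)).filter
      (fun b => (a * b) ^ 2 = w)).card ≤ 4 := by
    intro w hw
    simp only [W, Finset.mem_filter, Finset.mem_univ, true_and] at hw
    obtain ⟨g1, g2, -, -⟩ := hw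
    obtain ⟨k1, -, -⟩ := mem_J.1 g1
    obtain ⟨k2, k3, k4⟩ := mem_J.1 g2
    refine le_trans ?_ (card_E hy w _ k2 k1 k4 k3)
    apply Finset.card_le_card_of_injOn (fun b => a * b)
    · intro b hb
      rw [Finset.mem_coe, Finset.mem_filter] at hb
      obtain ⟨hbB, hbw⟩ := hb
      obtain ⟨-, hab⟩ := hB b hbB
      simp only [E, Finset.coe_filter, Finset.mem_univ, true_and, Set.mem_ofPred_eq]
      refine ⟨?_, hab⟩
      rw [← hbw]
      simp [pow_succ, mul_assoc]
    · intro b _ b' _ hbb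
      exact mul_left_cancel hbb
  have h1 := Finset.card_le_mul_card_image_of_maps_to hmaps 4 hfib
  have h2 := card_W hy a ha
  omega

theorem exists_235 (hy : Hyp G) :
    ∃ a b : G, orderOf a = 2 ∧ orderOf b = 3 ∧ (a * b) ^ 5 = 1 := by
  obtain ⟨a, ha⟩ := exists_prime_orderOf_dvd_card' (G := G) 2 (by rw [hy.card]; norm_num)
  by_contra hcon
  push Not at hcon
  have hsub : (B : Finset G) ⊆ ((B : Finset G).filter (fun b => (a * b) ^ 2 = 1) ∪
      (B : Finset G).filter (fun b => (a * b) ^ 3 = 1)) ∪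
      (B : Finset G).filter (fun b => orderOf (a * b) = 4) := by
    intro b hb
    have hb3 : orderOf b = 3 := by simpa [B] using hb
    simp only [Finset.mem_union, Finset.mem_filter]
    rcases orders hy (a * b) with h | h | h | h
    · exact Or.inl (Or.inl ⟨hb, h⟩)
    · exact Or.inl (Or.inr ⟨hb, h⟩)
    · exact Or.inr ⟨hb, h⟩
    · exact absurd h (hcon a b ha hb3)
  have h1 := Finset.card_le_card hsub
  have h2 := Finset.card_union_le ((B : Finset G).filter (fun b => (a * b) ^ 2 = 1) ∪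
      (B : Finset G).filter (fun b => (a * b) ^ 3 = 1))
      ((B : Finset G).filter (fun b => orderOf (a * b) = 4))
  have h3 := Finset.card_union_le ((B : Finset G).filter (fun b => (a * b) ^ 2 = 1))
      ((B : Finset G).filter (fun b => (a * b) ^ 3 = 1))
  have h4 := card_B2 hy a ha
  have h5 := card_B3 hy a ha
  have h6 := card_B4 hy a ha
  have h7 := card_B hy
  omega

end Cfsg.Agent.Lib.Helper60.O360
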