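import Mathlib
import Cfsg.Agent.Lib.Helper60.O360d
import Cfsg.Agent.S3377

/-! Simple groups of order 360, part e: a subgroup of index 6. -/

set_option autoImplicit false

namespace Cfsg.Agent.Lib.Helper60.O360

open Subgroup MulAction

theorem exists_index_two (H : Type*) [Group H] [Finite H] (h : Nat.card H = 30) :
    ∃ K : Subgroup H, K.index = 2 := by
  obtain ⟨P⟩ : Nonempty (Sylow 2 H) := inferInstance
  have hP : Nat.card P = 2 := by
    simpa using Cfsg.Agent.Lib.Helper75.card_sylow_eq_pow P 1 15 (by rw [h]; norm_num) (by norm_num)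
  have hcyc : IsCyclic P := isCyclic_of_prime_card hP
  have hmin : (Nat.card H).minFac = 2 := by rw [h]; norm_num
  have hc := IsCyclic.isComplement' hmin hcyc
  exact ⟨_, hc.symm.index_eq_card.trans hP⟩

variable {G : Type*} [Group G] [Finite G] [IsSimpleGroup G]

theorem false_of_hyp (hy : Hyp G) : False := by
  have := Fintype.ofFinite G
  obtain ⟨a, b, ha, hb, hab⟩ := exists_235 hy
  obtain ⟨ha1, ha2, ha3⟩ := invo a ha
  have hb3 : b ^ 3 = 1 := by rw [← hb, pow_orderOf_eq_one]
  set y := (a * b)⁻¹ with hy'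
  have hy5 : y ^ 5 = 1 := by rw [hy', inv_pow, hab, inv_one]
  have hxy : b * y = a := by rw [hy', mul_inv_rev, mul_inv_cancel_left, ha2]
  set H : Subgroup G := closure {b, y} with hH
  have hbH : b ∈ H := subset_closure (by simp)
  have hyH : y ∈ H := subset_closure (by simp)
  have haH : a ∈ H := hxy ▸ mul_mem hbH hyH
  have hgen : closure {(⟨b, hbH⟩ : H), ⟨y, hyH⟩} = ⊤ := by
    have h1 := Subgroup.closure_closure_coe_preimage (k := ({b, y} : Set G))
    have h2 : ((↑) : closure ({b, y} : Set G) → G) ⁻¹' {b, y} = {(⟨b, hbH⟩ : H), ⟨y, hyH⟩} := by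
      ext ⟨g, hg⟩
      simp [Subtype.ext_iff]
    rw [h2] at h1
    exact h1
  obtain ⟨h0, h60⟩ := Cfsg.Agent.S3377.card_le (⟨b, hbH⟩ : H) ⟨y, hyH⟩ hgen
    (by ext; simpa using hb3) (by ext; simpa using hy5)
    (by ext; simp only [Subgroup.coe_pow, Subgroup.coe_mul, Subgroup.coe_one]; rw [hxy, pow_two, ha1])
  have hab1 : a * b ≠ 1 := by
    intro h
    have h1 : b = a := by rw [← ha2]; exact (eq_inv_of_mul_eq_one_right h)
    rw [h1, ha] at hb
    omega
  have hab5 : orderOf (a * b) = 5 := orderOf_eq_prime hab hab1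
  have d2 : 2 ∣ Nat.card H := ha ▸ Subgroup.orderOf_dvd_natCard H haH
  have d3 : 3 ∣ Nat.card H := hb ▸ Subgroup.orderOf_dvd_natCard H hbH
  have d5 : 5 ∣ Nat.card H := hab5 ▸ Subgroup.orderOf_dvd_natCard H (mul_mem haH hbH)
  have hcases : Nat.card H = 30 ∨ Nat.card H = 60 := by omega
  rcases hcases with h30 | h60'
  · obtain ⟨K, hK⟩ := exists_index_two H h30
    have hKc : Nat.card K = 15 := by
      have := K.card_mul_index
      rw [hK, h30] at this
      omega
    have hbK : (⟨b, hbH⟩ : H) ∈ K := by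
      have h1 := Subgroup.sq_mem_of_index_two hK ((⟨b, hbH⟩ : H) ^ 2)
      have h2 : ((⟨b, hbH⟩ : H) ^ 2) ^ 2 = ⟨b, hbH⟩ := by
        ext
        simp only [Subgroup.coe_pow]
        calc (b ^ 2) ^ 2 = b ^ 3 * b := by simp [pow_succ, mul_assoc]
          _ = b := by rw [hb3, one_mul]
      rwa [h2] at h1
    have hcK : (⟨a * b, mul_mem haH hbH⟩ : H) ∈ K := by
      have h1 := Subgroup.sq_mem_of_index_two hK ((⟨a * b, mul_mem haH hbH⟩ : H) ^ 3)
      have h2 : ((⟨a * b, mul_mem haH hbH⟩ : H) ^ 3) ^ 2 = ⟨a * b, mul_mem haH hbH⟩ := by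
        ext
        simp only [Subgroup.coe_pow]
        calc ((a * b) ^ 3) ^ 2 = (a * b) ^ 5 * (a * b) := by rw [← pow_mul, ← pow_succ]
          _ = a * b := by rw [hab, one_mul]
      rwa [h2] at h1
    have haK : (⟨a, haH⟩ : H) ∈ K := by
      have h1 := mul_mem hcK (inv_mem hbK)
      have h2 : (⟨a * b, mul_mem haH hbH⟩ : H) * (⟨b, hbH⟩ : H)⁻¹ = ⟨a, haH⟩ := by
        ext; simp
      rwa [h2] at h1
    have h1 := Subgroup.orderOf_dvd_natCard K haK
    rw [hKc, Subgroup.orderOf_mk, ha] at h1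
    omega
  · have := H.card_mul_index
    rw [h60', hy.card] at this
    exact hy.no6 H (by omega)

theorem main (h : Nat.card G = 360) : Nonempty (G ≃* alternatingGroup (Fin 6)) := by
  by_cases h6 : ∃ H : Subgroup G, H.index = 6
  · obtain ⟨H, hH⟩ := h6
    obtain ⟨f, hf⟩ := Cfsg.Agent.Lib.Helper11.exists_embedding_alternating (not_cyclic h) H
      (by rintro rfl; simp at hH) 6 hH
    have hc : Nat.card (alternatingGroup (Fin 6)) = 360 := by
      have h1 := two_mul_card_alternatingGroup (α := Fin 6)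
      rw [Fintype.card_perm, Fintype.card_fin] at h1
      rw [Nat.card_eq_fintype_card]
      have : Nat.factorial 6 = 720 := by decide
      omega
    have hb : Function.Bijective f :=
      hf.bijective_of_nat_card_le (by rw [hc, h])
    exact ⟨MulEquiv.ofBijective f hb⟩
  · push Not at h6
    exact (false_of_hyp ⟨h, h6⟩).elim

end Cfsg.Agent.Lib.Helper60.O360
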