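import Cfsg.Agent.Lib.Helper60.BG14Texts
import Cfsg.Agent.Lib.Helper24.BG14F

/-!
B-G Theorem 14.7: abstract data.  `PP H C`: `C ≠ 1` is a Hall `κ(H)`-subgroup of the maximal
subgroup `H`.  `ZD M K L` records what is used of such a pair with `L = K* = C_{M_σ}(K)`
(no cyclicity is assumed).  `Att Z H C A`: `(H, C)` is such a pair, `A = C*` and `Z = C × A`.
-/

set_option autoImplicit false

namespace Cfsg.Agent.Lib.Helper60.BG14

universe u

variable {G : Type u} [Group G]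

/-- helper24's bundle of texts (S1416 first part, S1417, S1418, S1378 second part, S1432). -/
abbrev TX (G : Type u) [Group G] : Prop := Cfsg.Agent.Lib.Helper24.BG14.Texts G

/-- `K* = M_σ ∩ C_G(K)`. -/
abbrev Ks (M K : Subgroup G) : Subgroup G :=
  Cfsg.sigmaCore M ⊓ Subgroup.centralizer (K : Set G)

/-- `Ẑ = K L − (K ∪ L)`. -/
abbrev Zh (K L : Subgroup G) : Set G := (↑(K ⊔ L) : Set G) \ ((K : Set G) ∪ ↑L)

/-- the class support of a set. -/
abbrev CS (X : Set G) : Set G := {a : G | ∃ g : G, ∃ z ∈ X, a = g * z * g⁻¹}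

/-- `M̃`: the union of the conjugates of the cosets `x R(x)`, `x ∈ M_σ − 1`. -/
noncomputable abbrev Tl (M : Subgroup G) : Set G :=
  Cfsg.tildeOf M ((Cfsg.sigmaCore M : Set G) \ {1})

/-- `C ≠ 1` is a Hall `κ(H)`-subgroup of the maximal subgroup `H`. -/
structure PP (H C : Subgroup G) : Prop where
  coatom : IsCoatom H
  hall : Cfsg.IsPiHallOf (Cfsg.kappa H) C H
  ne : C ≠ ⊥

/-- abstract data of B-G 14.7. -/
structure ZD (M K L : Subgroup G) : Prop where
  KM : K ≤ M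
  LM : L ≤ M
  K1 : K ≠ ⊥
  L1 : L ≠ ⊥
  comm : ∀ a ∈ K, ∀ b ∈ L, a * b = b * a
  cop : (Nat.card K).Coprime (Nat.card L)
  cent : ∀ k ∈ K, k ≠ 1 → M ⊓ Subgroup.centralizer ({k} : Set G) ≤ K ⊔ L
  tiK : ∀ g ∈ M, g ∉ K ⊔ L → K ⊓ K.map (MulAut.conj g).toMonoidHom = ⊥
  ti : ∀ g : G, g ∉ M → L ⊓ M.map (MulAut.conj g).toMonoidHom = ⊥

/-- the maximal subgroup `H` is attached to `Z`: `Z = C × A` with `C ≠ 1` a Hall `κ(H)`-subgroup
of `H` and `A = C* = C_{H_σ}(C)`. -/
structure Att (Z H C A : Subgroup G) : Prop where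
  pp : PP H C
  A_eq : A = Ks H C
  sup : C ⊔ A = Z

/-- the elements of `Z` lying in no `σ`-part of an attached maximal subgroup. -/
def Zo (Z : Subgroup G) : Set G := {z | z ∈ Z ∧ ∀ H C A : Subgroup G, Att Z H C A → z ∉ A}

/-- the set of the `σ`-parts `A` of the maximal subgroups attached to `Z`. -/
noncomputable def attSet [Finite G] (Z : Subgroup G) : Finset (Subgroup G) :=
  (Set.toFinite {A : Subgroup G | ∃ H C : Subgroup G, Att Z H C A}).toFinset

theorem mem_attSet [Finite G] {Z A : Subgroup G} :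
    A ∈ attSet Z ↔ ∃ H C : Subgroup G, Att Z H C A := by
  simp [attSet]

/-- `H` is of type `P₁`: every prime divisor of `#H` lies in `σ(H) ∪ κ(H)`. -/
def IsP1 (H : Subgroup G) : Prop :=
  ∀ q : ℕ, q.Prime → q ∣ Nat.card H → q ∉ Cfsg.sigma H → q ∈ Cfsg.kappa H

end Cfsg.Agent.Lib.Helper60.BG14
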