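import Mathlib
import Cfsg.Agent.Lib.Helper6.Invol
import Cfsg.Agent.Lib.Helper6.AltRec
import Cfsg.Agent.Lib.Helper11.NPC
import Cfsg.Agent.Lib.Helper60.ThreeInv

set_option autoImplicit false

/-!
Group-theoretic part of: a simple group with an involution `x` such that a Klein four-group is a
normal Sylow `2`-subgroup of `C(x)` is the alternating group of degree five.
-/

namespace Cfsg.Agent.Lib.Helper60.KleinCent

open Cfsg.Agent.Lib.Helper6 Cfsg.Agent.Lib.Helper60.ThreeInv

variable {G : Type*} [Group G]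

/-- the hypotheses -/
structure Setup (x : G) (S₀ : Subgroup G) : Prop where
  hx : orderOf x = 2
  hle : S₀ ≤ Subgroup.centralizer ({x} : Set G)
  hK : IsKleinFour ↥S₀
  hodd : ¬ 2 ∣ S₀.relIndex (Subgroup.centralizer ({x} : Set G))
  hn : (S₀.subgroupOf (Subgroup.centralizer ({x} : Set G))).Normal

variable {x : G} {S₀ : Subgroup G}

theorem mem_cent {a g : G} : g ∈ Subgroup.centralizer ({a} : Set G) ↔ Commute a g := by
  rw [Subgroup.mem_centralizer_singleton_iff]
  exact ⟨fun h => h.symm, fun h => h.symm⟩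

/-- `2`-elements of `C(x)` lie in `S₀` -/
theorem Setup.mem (St : Setup x S₀) {g : G} (hg : Commute x g) {k : ℕ} (hk : g ^ 2 ^ k = 1) :
    g ∈ S₀ := by
  have hn := St.hn
  let g' : ↥(Subgroup.centralizer ({x} : Set G)) := ⟨g, mem_cent.mpr hg⟩
  have h1 : g' ^ (S₀.subgroupOf (Subgroup.centralizer ({x} : Set G))).index ∈
      S₀.subgroupOf (Subgroup.centralizer ({x} : Set G)) := Subgroup.pow_index_mem _ g'
  have hg' : g' ^ 2 ^ k = 1 := Subtype.ext hk
  have hcop : ((S₀.subgroupOf (Subgroup.centralizer ({x} : Set G))).index).Coprime (orderOf g') := by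
    have h2 : orderOf g' ∣ 2 ^ k := orderOf_dvd_of_pow_eq_one hg'
    apply Nat.Coprime.coprime_dvd_right h2
    apply Nat.Coprime.pow_right
    rw [Nat.coprime_two_right, ← Nat.not_even_iff_odd, even_iff_two_dvd]
    exact St.hodd
  obtain ⟨m, hm⟩ := exists_pow_eq_self_of_coprime hcop
  have h3 : g' ∈ S₀.subgroupOf (Subgroup.centralizer ({x} : Set G)) := by
    rw [← hm]; exact Subgroup.pow_mem _ h1 m
  exact Subgroup.mem_subgroupOf.mp h3

theorem Setup.invol_mem (St : Setup x S₀) {u : G} (hu : orderOf u = 2) (hc : Commute x u) :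
    u ∈ S₀ :=
  St.mem hc (k := 1) (by rw [pow_one]; exact invol_sq hu)

theorem Setup.x_mem (St : Setup x S₀) : x ∈ S₀ := St.invol_mem St.hx (Commute.refl x)

theorem Setup.comm (St : Setup x S₀) {a b : G} (ha : a ∈ S₀) (hb : b ∈ S₀) : Commute a b := by
  have := St.hK
  have := (IsKleinFour.isMulCommutative (G := S₀)).is_comm.comm ⟨a, ha⟩ ⟨b, hb⟩
  exact congrArg Subtype.val this

theorem Setup.sq (St : Setup x S₀) {a : G} (ha : a ∈ S₀) : a * a = 1 := by
  have := St.hK
  exact congrArg Subtype.val (IsKleinFour.mul_self (⟨a, ha⟩ : S₀))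

theorem Setup.finite (St : Setup x S₀) : Finite S₀ :=
  Nat.finite_of_card_ne_zero (by rw [St.hK.card_four]; norm_num)

theorem Setup.card_le [Finite G] (St : Setup x S₀) :
    Nat.card {u : ↥(Subgroup.centralizer ({x} : Set G)) // orderOf u = 2} ≤ 3 := by
  have h1 : Nat.card {s : S₀ // s ≠ 1} < Nat.card S₀ :=
    Finite.card_subtype_lt (x := 1) (by simp)
  rw [St.hK.card_four] at h1
  let f : {u : ↥(Subgroup.centralizer ({x} : Set G)) // orderOf u = 2} → {s : S₀ // s ≠ 1} :=
    fun u => ⟨⟨(u.1 : G), St.invol_mem (by rw [Subgroup.orderOf_coe]; exact u.2)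
      (mem_cent.mp u.1.2)⟩, by
        intro h
        have h2 : (u.1 : G) = 1 := congrArg Subtype.val h
        have h3 : u.1 = 1 := Subtype.ext h2
        have h4 := u.2
        rw [h3, orderOf_one] at h4
        omega⟩
  have hf : Function.Injective f := by
    intro u v h
    have h2 : (u.1 : G) = v.1 := congrArg (fun s => ((s.1 : S₀) : G)) h
    exact Subtype.ext (Subtype.ext h2)
  have := Nat.card_le_card_of_injective f hf
  omega

theorem Setup.exists_y [Finite G] (St : Setup x S₀) :
    ∃ y : G, orderOf y = 2 ∧ y ∈ S₀ ∧ y ≠ x ∧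
      ∀ u : G, orderOf u = 2 → Commute x u → u = x ∨ u = y ∨ u = x * y := by
  have hK := St.hK
  have hx1 : x ≠ 1 := invol_ne_one St.hx
  obtain ⟨y, hyS, hy1, hyx⟩ : ∃ y ∈ S₀, y ≠ 1 ∧ y ≠ x := by
    by_contra hcon
    push Not at hcon
    have hle : S₀ ≤ Subgroup.zpowers x := by
      intro g hg
      by_cases h1 : g = 1
      · rw [h1]; exact Subgroup.one_mem _
      · rw [hcon g hg h1]; exact Subgroup.mem_zpowers x
    have h1 := Subgroup.card_le_of_le hle
    rw [hK.card_four, Nat.card_zpowers, St.hx] at h1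
    omega
  refine ⟨y, invol_iff.mpr ⟨St.sq hyS, hy1⟩, hyS, hyx, ?_⟩
  intro u hu hc
  have huS := St.invol_mem hu hc
  by_cases h1 : u = x
  · exact Or.inl h1
  by_cases h2 : u = y
  · exact Or.inr (Or.inl h2)
  right; right
  have h3 : (⟨u, huS⟩ : S₀) = ⟨x, St.x_mem⟩ * ⟨y, hyS⟩ :=
    IsKleinFour.eq_mul_of_ne_all (x := (⟨x, St.x_mem⟩ : S₀)) (y := ⟨y, hyS⟩) (z := ⟨u, huS⟩)
      (fun h => hx1 (congrArg Subtype.val h)) (fun h => hy1 (congrArg Subtype.val h))
      (fun h => hyx (congrArg Subtype.val h).symm)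
      (fun h => invol_ne_one hu (congrArg Subtype.val h))
      (fun h => h1 (congrArg Subtype.val h)) (fun h => h2 (congrArg Subtype.val h))
  exact congrArg Subtype.val h3

theorem Setup.sylow [Finite G] (St : Setup x S₀)
    (hS : ∃ S : Sylow 2 G, (S : Subgroup G) ≤ Subgroup.centralizer ({x} : Set G)) :
    ∃ P : Sylow 2 G, (P : Subgroup G) = S₀ := by
  obtain ⟨S, hS⟩ := hS
  refine ⟨S, ?_⟩
  have hle : (S : Subgroup G) ≤ S₀ := by
    intro g hg
    obtain ⟨k, hk⟩ := S.2 ⟨g, hg⟩
    exact St.mem (mem_cent.mp (hS hg)) (k := k) (congrArg Subtype.val hk)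
  have hp : IsPGroup 2 S₀ := IsPGroup.of_card (n := 2) (by rw [St.hK.card_four]; norm_num)
  exact (S.is_maximal' hp hle).symm

theorem Setup.commute_or_odd [Finite G] (St : Setup x S₀)
    (hone : ∀ u v : G, orderOf u = 2 → orderOf v = 2 → IsConj u v) {s : G}
    (hs : orderOf s = 2) : Commute s x ∨ Odd (orderOf (s * x)) := by
  rcases Nat.even_or_odd (orderOf (s * x)) with he | ho
  · left
    obtain ⟨m, hm⟩ := he
    have hm' : orderOf (s * x) = 2 * m := by omega
    have hm0 : m ≠ 0 := by
      intro h0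
      have := orderOf_pos (s * x)
      omega
    obtain ⟨hz, c1, c2⟩ := invol_central_of_even hs St.hx hm' hm0
    obtain ⟨g, hg⟩ := isConj_iff.mp (hone x _ St.hx hz)
    have key : ∀ t : G, orderOf t = 2 → Commute t ((s * x) ^ m) → g⁻¹ * t * g⁻¹⁻¹ ∈ S₀ := by
      intro t ht hc
      apply St.invol_mem (invol_conj ht g⁻¹)
      rw [← Commute.conj_iff g]
      have e1 : g * (g⁻¹ * t * g⁻¹⁻¹) * g⁻¹ = t := by group
      rw [e1, hg]
      exact hc.symm
    have h1 := St.comm (key s hs c1) (key x St.hx c2)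
    exact (Commute.conj_iff g⁻¹).mp h1
  · exact Or.inr ho

theorem Setup.le_normalizer (St : Setup x S₀) :
    Subgroup.centralizer ({x} : Set G) ≤ Subgroup.normalizer (S₀ : Set G) :=
  (Subgroup.normal_subgroupOf_iff_le_normalizer St.hle).mp St.hn

theorem Setup.three_le [Finite G] (St : Setup x S₀) (P : Sylow 2 G) (hP : (P : Subgroup G) = S₀)
    (hone : ∀ u v : G, orderOf u = 2 → orderOf v = 2 → IsConj u v) :
    3 ≤ (Subgroup.centralizer ({x} : Set G)).relIndex (Subgroup.normalizer (S₀ : Set G)) := by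
  have hfact : Fact (Nat.Prime 2) := ⟨Nat.prime_two⟩
  obtain ⟨y, hy, hyS, hyx, -⟩ := St.exists_y
  obtain ⟨g, hg⟩ := isConj_iff.mp (hone x y St.hx hy)
  have hgN : g ∈ Subgroup.normalizer (S₀ : Set G) := by
    have h1 : g⁻¹ ∈ Subgroup.normalizer (S₀ : Set G) := by
      apply Cfsg.Agent.Lib.Helper11.mem_normalizer_of_conj_mem
      intro s hs
      apply St.mem (k := 1)
      · rw [← Commute.conj_iff g]
        have e1 : g * (g⁻¹ * s * g⁻¹⁻¹) * g⁻¹ = s := by group
        rw [e1, hg]
        exact St.comm hyS hs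
      · rw [pow_one, pow_two]
        have e2 : g⁻¹ * s * g⁻¹⁻¹ * (g⁻¹ * s * g⁻¹⁻¹) = g⁻¹ * (s * s) * g := by group
        rw [e2, St.sq hs]; group
    have := Subgroup.inv_mem _ h1
    rwa [inv_inv] at this
  have hgC : g ∉ Subgroup.centralizer ({x} : Set G) := by
    intro h
    apply hyx
    rw [← hg, ← (mem_cent.mp h).eq]; group
  have h1 : (Subgroup.centralizer ({x} : Set G)).relIndex (Subgroup.normalizer (S₀ : Set G)) ≠ 1 := by
    intro h
    exact hgC (Subgroup.relIndex_eq_one.mp h hgN)
  have h0 : (Subgroup.centralizer ({x} : Set G)).relIndex (Subgroup.normalizer (S₀ : Set G)) ≠ 0 := by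
    unfold Subgroup.relIndex
    exact Subgroup.index_ne_zero_of_finite
  have h2 : ¬ 2 ∣ (Subgroup.centralizer ({x} : Set G)).relIndex
      (Subgroup.normalizer (S₀ : Set G)) := by
    intro h
    have h3 := Subgroup.relIndex_mul_index St.le_normalizer
    have h4 : (Subgroup.centralizer ({x} : Set G)).index ∣ (P : Subgroup G).index :=
      Subgroup.index_dvd_of_le (hP ▸ St.hle)
    apply P.not_dvd_index
    exact (h.trans (Dvd.intro _ h3)).trans h4
  omega

/-- The final identification. -/
theorem Setup.final [Finite G] [IsSimpleGroup G] (St : Setup x S₀) (P : Sylow 2 G)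
    (hP : (P : Subgroup G) = S₀)
    (hone : ∀ u v : G, orderOf u = 2 → orderOf v = 2 → IsConj u v)
    (h18 : (Subgroup.centralizer ({x} : Set G)).index < 18) :
    Nonempty (G ≃* alternatingGroup (Fin 5)) := by
  classical
  have hfact : Fact (Nat.Prime 2) := ⟨Nat.prime_two⟩
  have := Fintype.ofFinite (Sylow 2 G)
  have h3 := St.three_le P hP hone
  have hri := Subgroup.relIndex_mul_index St.le_normalizer
  have hn : Nat.card (Sylow 2 G) = (Subgroup.normalizer (S₀ : Set G)).index := by
    rw [Sylow.card_eq_index_normalizer P]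
    show (Subgroup.normalizer ((P : Subgroup G) : Set G)).index = _
    rw [hP]
  set n := (Subgroup.normalizer (S₀ : Set G)).index with hndef
  set r := (Subgroup.centralizer ({x} : Set G)).relIndex (Subgroup.normalizer (S₀ : Set G)) with hr
  have hc4 : 4 ≤ Nat.card (Subgroup.centralizer ({x} : Set G)) := by
    have := Subgroup.card_le_of_le St.hle
    rwa [St.hK.card_four] at this
  have hG := (Subgroup.centralizer ({x} : Set G)).card_mul_index
  have hn6 : n < 6 := by
    by_contra hcon
    push Not at hcon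
    have : 3 * 6 ≤ r * n := Nat.mul_le_mul h3 hcon
    omega
  have hG12 : 12 * n ≤ Nat.card G := by
    rw [← hG, ← hri]
    calc 12 * n = 4 * (3 * n) := by ring
      _ ≤ Nat.card (Subgroup.centralizer ({x} : Set G)) * (r * n) :=
        Nat.mul_le_mul hc4 (Nat.mul_le_mul_right n h3)
  have hn0 : n ≠ 0 := Subgroup.index_ne_zero_of_finite
  -- the action is faithful
  let φ : G →* Equiv.Perm (Sylow 2 G) := MulAction.toPermHom G (Sylow 2 G)
  have hφ : Function.Injective φ := by
    rw [← MonoidHom.ker_eq_bot_iff]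
    rcases IsSimpleGroup.eq_bot_or_eq_top_of_normal φ.ker inferInstance with h | h
    · exact h
    · exfalso
      have hall : ∀ g : G, g ∈ Subgroup.normalizer (S₀ : Set G) := by
        intro g
        have h1 : g ∈ φ.ker := h ▸ Subgroup.mem_top g
        have h2 : g • P = P := by
          have h6 := congrArg (fun σ => σ P) (MonoidHom.mem_ker.mp h1)
          exact h6
        have h4 := Sylow.smul_eq_iff_mem_normalizer.mp h2
        have h0 : Subgroup.normalizer (P : Set G) = Subgroup.normalizer (S₀ : Set G) := by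
          show Subgroup.normalizer ((P : Subgroup G) : Set G) = _
          rw [hP]
        rwa [h0] at h4
      have htop : Subgroup.normalizer (S₀ : Set G) = ⊤ := by
        rw [eq_top_iff]; intro g _; exact hall g
      have hnorm : S₀.Normal := Subgroup.normalizer_eq_top_iff.mp htop
      rcases IsSimpleGroup.eq_bot_or_eq_top_of_normal S₀ hnorm with h5 | h5
      · have := St.hK.card_four
        rw [h5, Subgroup.card_bot] at this
        omega
      · have := St.hK.card_four
        rw [h5, Subgroup.card_top] at this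
        have : 0 < n := Nat.pos_of_ne_zero hn0
        omega
  have hle1 : Nat.card G ≤ n.factorial := by
    have := Nat.card_le_card_of_injective φ hφ
    rwa [Nat.card_perm, hn] at this
  have hn5 : n = 5 := by
    have h1 : 12 * n ≤ n.factorial := hG12.trans hle1
    interval_cases n <;> first | rfl | exact absurd rfl hn0 | (exfalso; revert h1; decide)
  rw [hn5] at hn hG12
  -- the sign is trivial
  have hsign : ∀ g : G, Equiv.Perm.sign (φ g) = 1 := by
    let ψ : G →* ℤˣ := Equiv.Perm.sign.comp φ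
    rcases IsSimpleGroup.eq_bot_or_eq_top_of_normal ψ.ker inferInstance with h | h
    · exfalso
      have hinj : Function.Injective ψ := (MonoidHom.ker_eq_bot_iff ψ).mp h
      have := Nat.card_le_card_of_injective ψ hinj
      rw [Nat.card_eq_fintype_card (α := ℤˣ), Fintype.card_units_int] at this
      omega
    · intro g
      have h1 : g ∈ ψ.ker := h ▸ Subgroup.mem_top g
      exact MonoidHom.mem_ker.mp h1
  have hnt : Nontrivial (Sylow 2 G) := by
    rw [← Finite.one_lt_card_iff_nontrivial, hn]; norm_num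
  have hle2 : 2 * Nat.card G ≤ 120 := by
    let φ' : G → alternatingGroup (Sylow 2 G) :=
      fun g => ⟨φ g, Equiv.Perm.mem_alternatingGroup.mpr (hsign g)⟩
    have hinj : Function.Injective φ' := by
      intro a b h
      exact hφ (congrArg Subtype.val h)
    have h1 := Nat.card_le_card_of_injective φ' hinj
    have h2 := two_mul_card_alternatingGroup (α := Sylow 2 G)
    rw [Fintype.card_perm, ← Nat.card_eq_fintype_card, ← Nat.card_eq_fintype_card, hn] at h2
    have h3 : (5 : ℕ).factorial = 120 := by decide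
    omega
  apply mulEquiv_alternatingGroup_of_injective φ hφ 5 hn
  have h3 : (5 : ℕ).factorial = 120 := by decide
  omega

end Cfsg.Agent.Lib.Helper60.KleinCent
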